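import Cfsg.Agent.Lib.SuzukiTwo.Weight
import Cfsg.Agent.Lib.SuzukiTwo.Extension
import Cfsg.Prelude.Def_LieRecognition

/-!
The groups of type A and the quadratic maps of Suzuki 2-groups of square order.
-/

set_option autoImplicit false
set_option linter.unusedSectionVars false

namespace Cfsg.Agent.Lib.SuzukiTwo

section group

variable {F : Type*} [Field F] (φ : F →+* F)

/-- The element with coordinates `(x, y)`. -/
def typeAElt (p : F × F) : GL (Fin 3) F :=
  Matrix.GeneralLinearGroup.mkOfDetNeZero !![1, 0, 0; p.1, 1, 0; p.2, φ p.1, 1]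
    (by simp [Matrix.det_fin_three])

theorem typeAElt_val (p : F × F) :
    (typeAElt φ p : Matrix (Fin 3) (Fin 3) F) = !![1, 0, 0; p.1, 1, 0; p.2, φ p.1, 1] := rfl

theorem typeAElt_injective : Function.Injective (typeAElt φ) := by
  intro p p' h
  have h' : (typeAElt φ p : Matrix (Fin 3) (Fin 3) F) = (typeAElt φ p' : Matrix (Fin 3) (Fin 3) F) := by
    rw [h]
  refine Prod.ext ?_ ?_
  · simpa [typeAElt_val] using congrFun (congrFun h' 1) 0
  · simpa [typeAElt_val] using congrFun (congrFun h' 2) 0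

theorem typeAElt_mul (p p' : F × F) :
    typeAElt φ p * typeAElt φ p' = typeAElt φ (p.1 + p'.1, p.2 + p'.2 + φ p.1 * p'.1) := by
  refine Units.ext ?_
  rw [Units.val_mul, typeAElt_val, typeAElt_val, typeAElt_val]
  ext i j
  fin_cases i <;> fin_cases j <;>
    simp [Matrix.mul_apply, Fin.sum_univ_three] <;> ring

theorem typeAElt_one : typeAElt φ (0, 0) = 1 := by
  refine Units.ext ?_
  rw [typeAElt_val, Units.val_one]
  ext i j
  fin_cases i <;> fin_cases j <;> simp

theorem typeAElt_inv (p : F × F) :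
    (typeAElt φ p)⁻¹ = typeAElt φ (-p.1, -p.2 + φ p.1 * p.1) := by
  refine inv_eq_of_mul_eq_one_right ?_
  rw [typeAElt_mul, ← typeAElt_one φ]
  congr 1
  exact Prod.ext (add_neg_cancel _) (by ring)

theorem mem_typeA {g : GL (Fin 3) F} : g ∈ Cfsg.suzukiTypeA F φ ↔ ∃ p, typeAElt φ p = g := by
  constructor
  · intro h
    refine Subgroup.closure_induction (p := fun g _ => ∃ p, typeAElt φ p = g) ?_ ⟨_, typeAElt_one φ⟩
      ?_ ?_ h
    · rintro g ⟨x, y, hg⟩
      exact ⟨(x, y), Units.ext (by rw [typeAElt_val, hg])⟩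
    · rintro _ _ _ _ ⟨p, rfl⟩ ⟨p', rfl⟩
      exact ⟨_, (typeAElt_mul φ p p').symm⟩
    · rintro _ _ ⟨p, rfl⟩
      exact ⟨_, (typeAElt_inv φ p).symm⟩
  · rintro ⟨p, rfl⟩
    exact Subgroup.subset_closure ⟨p.1, p.2, typeAElt_val φ p⟩

/-- The group of type A as an extension of `F` by `F`. -/
theorem exists_typeA_extension [CharP F 2] :
    ∃ (π : Cfsg.suzukiTypeA F φ →* Multiplicative F) (η : Multiplicative F →* Cfsg.suzukiTypeA F φ),
      Function.Surjective π ∧ Function.Injective η ∧ η.range = π.ker ∧ (∀ y s, η y * s = s * η y) ∧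
        ∀ s, s * s = η (Multiplicative.ofAdd ((π s).toAdd * φ (π s).toAdd)) := by
  let π : Cfsg.suzukiTypeA F φ →* Multiplicative F :=
    MonoidHom.mk' (fun s => Multiplicative.ofAdd ((s.1 : Matrix (Fin 3) (Fin 3) F) 1 0)) (by
      rintro ⟨s, hs⟩ ⟨s', hs'⟩
      obtain ⟨p, rfl⟩ := (mem_typeA φ).mp hs
      obtain ⟨p', rfl⟩ := (mem_typeA φ).mp hs'
      simp [typeAElt_mul, typeAElt_val, ofAdd_add])
  have hπ : ∀ p h, π ⟨typeAElt φ p, h⟩ = Multiplicative.ofAdd p.1 := fun p h => by
    simp [π, typeAElt_val]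
  let η : Multiplicative F →* Cfsg.suzukiTypeA F φ :=
    MonoidHom.mk' (fun y => ⟨typeAElt φ (0, y.toAdd), (mem_typeA φ).mpr ⟨_, rfl⟩⟩) (fun y y' =>
      Subtype.ext (by simp [typeAElt_mul]))
  refine ⟨π, η, fun x => ⟨⟨typeAElt φ (x.toAdd, 0), (mem_typeA φ).mpr ⟨_, rfl⟩⟩, by simp [hπ]⟩,
    fun y y' h => ?_, ?_, ?_, ?_⟩
  · exact Multiplicative.toAdd.injective
      (congrArg Prod.snd (typeAElt_injective φ (congrArg Subtype.val h)))
  · refine le_antisymm ?_ ?_
    · rintro _ ⟨y, rfl⟩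
      rw [MonoidHom.mem_ker]
      exact (hπ _ _).trans rfl
    · rintro ⟨s, hs⟩ h
      obtain ⟨p, rfl⟩ := (mem_typeA φ).mp hs
      rw [MonoidHom.mem_ker, hπ] at h
      refine ⟨Multiplicative.ofAdd p.2, Subtype.ext ?_⟩
      show typeAElt φ (0, p.2) = typeAElt φ p
      congr 1
      exact Prod.ext (ofAdd_eq_one.mp h).symm rfl
  · rintro y ⟨s, hs⟩
    obtain ⟨p, rfl⟩ := (mem_typeA φ).mp hs
    refine Subtype.ext ?_
    show typeAElt φ (0, y.toAdd) * typeAElt φ p = typeAElt φ p * typeAElt φ (0, y.toAdd)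
    rw [typeAElt_mul, typeAElt_mul]
    congr 1
    refine Prod.ext (by simp) ?_
    simp [add_comm]
  · rintro ⟨s, hs⟩
    obtain ⟨p, rfl⟩ := (mem_typeA φ).mp hs
    refine Subtype.ext ?_
    rw [hπ]
    show typeAElt φ p * typeAElt φ p = typeAElt φ (0, p.1 * φ p.1)
    rw [typeAElt_mul]
    congr 1
    refine Prod.ext (CharTwo.add_self_eq_zero _) ?_
    show p.2 + p.2 + φ p.1 * p.1 = p.1 * φ p.1
    rw [CharTwo.add_self_eq_zero, zero_add, mul_comm]

end group

section quadratic

variable {F : Type*} [Field F] [Fintype F] [CharP F 2]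

/-- A quadratic map equivariant for primitive elements is `x ↦ σ x * τ x`. -/
theorem exists_pair_of_quadratic {ρ m : F} (hρ : IsGen ρ) (Q : F → F) (B : F →+ F →+ F)
    (hQB : ∀ x y, Q (x + y) = Q x + Q y + B x y) (hBne : B ≠ 0) (hQ0 : Q 0 = 0) (hQ1 : Q 1 = 1)
    (hQρ : ∀ x, Q (ρ * x) = m * Q x) :
    ∃ σ τ : F ≃+* F, σ ≠ τ ∧ ∀ x, Q x = σ x * τ x := by
  classical
  haveI : Finite (F ≃+* F) := Finite.of_injective _ DFunLike.coe_injective
  haveI : Fintype (F ≃+* F) := Fintype.ofFinite _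
  have halt : ∀ x, B x x = 0 := by
    intro x
    have h := hQB x x
    rwa [CharTwo.add_self_eq_zero, hQ0, CharTwo.add_self_eq_zero, zero_add, eq_comm] at h
  have heq : ∀ x y, B (ρ * x) (ρ * y) = m * B x y := by
    intro x y
    have h1 := hQB (ρ * x) (ρ * y)
    rw [← mul_add, hQρ, hQρ, hQρ, hQB x y] at h1
    linear_combination -h1
  obtain ⟨c, hc, hsupp⟩ := exists_coeff_equivariant B heq
  obtain ⟨⟨σ, τ⟩, hq⟩ : ∃ q, c q ≠ 0 := by
    by_contra h
    push Not at h
    exact hBne (AddMonoidHom.ext fun x => AddMonoidHom.ext fun y => by rw [hc]; simp [h])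
  have hm : σ ρ * τ ρ = m := hsupp _ hq
  have honly : ∀ q, c q ≠ 0 → q = (σ, τ) ∨ q = (τ, σ) := by
    rintro ⟨α, β⟩ hab
    rcases hρ.pair_unique ((hsupp _ hab).trans hm.symm) with ⟨h1, h2⟩ | ⟨h1, h2⟩
    · exact Or.inl (by rw [show α = σ from h1, show β = τ from h2])
    · exact Or.inr (by rw [show α = τ from h1, show β = σ from h2])
  have hst : σ ≠ τ := by
    rintro rfl
    have h1 := halt 1
    rw [hc, Fintype.sum_eq_single (σ, σ) fun q hq' => by
      rw [show c q = 0 from not_not.mp fun h => hq' ((honly q h).elim id id), zero_mul]] at h1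
    simp only [map_one, mul_one] at h1
    exact hq h1
  have hBform : ∀ x y, B x y = c (σ, τ) * (σ x * τ y) + c (τ, σ) * (τ x * σ y) := by
    intro x y
    rw [hc, ← Finset.sum_pair (f := fun q => c q * (q.1 x * q.2 y))
      (show (σ, τ) ≠ (τ, σ) from fun h => hst (congrArg Prod.fst h))]
    refine (Finset.sum_subset (Finset.subset_univ _) fun q _ hq' => ?_).symm
    rw [show c q = 0 from not_not.mp fun h => hq' (by simpa using honly q h), zero_mul]
  have hcc : c (τ, σ) = c (σ, τ) := by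
    have h1 := halt 1
    rw [hBform] at h1
    simp only [map_one, mul_one] at h1
    exact (CharTwo.add_eq_zero.mp h1).symm
  set a := c (σ, τ) with ha
  let R : F →+ F := AddMonoidHom.mk' (fun x => Q x + a * (σ x * τ x)) (fun x y => by
    rw [hQB, hBform, hcc, map_add, map_add]
    linear_combination (a * (σ x * τ y + τ x * σ y)) * CharTwo.add_self_eq_zero (1 : F))
  obtain ⟨d, hd⟩ := FieldAut.exists_coeff 2 R
  have hR : R = 0 := by
    have hzero : ∀ μ, d μ * (μ ρ - m) = 0 := by
      refine fun μ => Fintype.linearIndependent_iff.mp (FieldAut.linearIndependent_aut (F := F))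
        (fun μ => d μ * (μ ρ - m)) ?_ μ
      funext x
      simp only [Finset.sum_apply, Pi.smul_apply, smul_eq_mul, Pi.zero_apply, RingHom.coe_coe]
      have h1 : R (ρ * x) = m * R x := by
        show Q (ρ * x) + a * (σ (ρ * x) * τ (ρ * x)) = m * (Q x + a * (σ x * τ x))
        rw [hQρ, map_mul, map_mul]
        linear_combination (a * (σ x * τ x)) * hm
      rw [hd, hd, Finset.mul_sum, ← sub_eq_zero, ← Finset.sum_sub_distrib] at h1
      rw [← h1]
      exact Finset.sum_congr rfl fun μ _ => by rw [map_mul]; ring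
    refine AddMonoidHom.ext fun x => ?_
    rw [hd]
    refine Finset.sum_eq_zero fun μ _ => ?_
    rcases mul_eq_zero.mp (hzero μ) with h | h
    · rw [h, zero_mul]
    · exact absurd (hρ.pair_eq (hm.trans (sub_eq_zero.mp h).symm)) hst
  have hQeq : ∀ x, Q x = a * (σ x * τ x) := fun x =>
    CharTwo.add_eq_zero.mp (show Q x + a * (σ x * τ x) = 0 from DFunLike.congr_fun hR x)
  have ha1 : a = 1 := by
    have := hQeq 1
    rw [hQ1, map_one, map_one, mul_one, mul_one] at this
    exact this.symm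
  exact ⟨σ, τ, hst, fun x => by rw [hQeq, ha1, one_mul]⟩

open IntermediateField in
/-- If `x ↦ x φ(x)` is injective then `φ` has odd order. -/
theorem odd_orderOf_of_injective (φ : F ≃+* F)
    (hinj : Function.Injective fun x : F => x * φ x) : Odd (orderOf φ) := by
  by_contra hodd
  rw [Nat.not_odd_iff_even] at hodd
  letI : Algebra (ZMod 2) F := ZMod.algebra F 2
  let ψ : F ≃ₐ[ZMod 2] F := AlgEquiv.ofRingEquiv (f := φ) (fun x =>
    RingHom.congr_fun (Subsingleton.elim ((φ : F →+* F).comp (algebraMap (ZMod 2) F))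
      (algebraMap (ZMod 2) F)) x)
  have hne : ∃ y : F, φ (φ y) = y ∧ φ y ≠ y := by
    by_contra hall
    push Not at hall
    have hfix : fixedField (Subgroup.zpowers (ψ ^ 2)) ≤ fixedField (Subgroup.zpowers ψ) := by
      intro y hy
      rw [mem_fixedField_iff] at hy ⊢
      have h2 : ψ (ψ y) = y := by
        have := hy (ψ ^ 2) (Subgroup.mem_zpowers _)
        rwa [pow_two, AlgEquiv.mul_apply] at this
      have h1 : ψ y = y := hall y h2
      intro f hf
      have hle : Subgroup.zpowers ψ ≤ MulAction.stabilizer (F ≃ₐ[ZMod 2] F) y := by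
        rw [Subgroup.zpowers_le]; exact h1
      exact hle hf
    have hle := fixingSubgroup_antitone hfix
    rw [fixingSubgroup_fixedField, fixingSubgroup_fixedField] at hle
    obtain ⟨i, hi⟩ := hle (Subgroup.mem_zpowers ψ)
    have ho : orderOf ψ = orderOf φ := by
      refine orderOf_eq_orderOf_iff.mpr fun n => ?_
      have hpow : ∀ n : ℕ, ∀ x, (ψ ^ n) x = (φ ^ n) x := by
        intro n
        induction n with
        | zero => intro x; rfl
        | succ n ih =>
          intro x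
          rw [pow_succ', pow_succ', AlgEquiv.mul_apply, ih]
          rfl
      constructor
      · intro h
        exact RingEquiv.ext fun x => by rw [← hpow, h]; rfl
      · intro h
        exact AlgEquiv.ext fun x => by rw [hpow, h]; rfl
    have h1 : ψ ^ (2 * i - 1) = 1 := by
      simp only at hi
      rw [zpow_sub, zpow_mul, zpow_one, zpow_ofNat, hi, mul_inv_cancel]
    have h2 := orderOf_dvd_iff_zpow_eq_one.mpr h1
    rw [ho] at h2
    obtain ⟨j, hj⟩ := hodd
    obtain ⟨r, hr⟩ := h2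
    rw [hj] at hr
    push_cast at hr
    have : (2 : ℤ) ∣ 1 := ⟨i - j * r, by linarith⟩
    omega
  obtain ⟨y, hy, hy1⟩ := hne
  have hy0 : y ≠ 0 := fun h => hy1 (by rw [h, map_zero])
  have hφy : φ y ≠ 0 := fun h => hy0 ((map_eq_zero_iff φ φ.injective).mp h)
  have h := @hinj (y / φ y) 1 (by
    simp only [map_div₀, hy, map_one, mul_one]
    field_simp)
  exact hy1 ((div_eq_one_iff_eq hφy).mp h).symm

end quadratic

end Cfsg.Agent.Lib.SuzukiTwo
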