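import Cfsg.Agent.Lib.SuzukiTwo.Centre
import Cfsg.Agent.Lib.SuzukiTwo.TypeA

/-!
Higman: a Suzuki 2-group whose order is the square of the order of its centre is of type A.
-/

set_option autoImplicit false
set_option linter.unusedSectionVars false

open scoped commutatorElement

namespace Cfsg.Agent.Lib.SuzukiTwo

variable {P : Type*} [Group P]

theorem exists_typeA (hP : Cfsg.IsSuzukiTwoGroup P)
    (hcard : Nat.card P = Nat.card (Subgroup.center P) ^ 2) :
    ∃ (F : Type) (_ : Field F) (_ : Fintype F) (φ : F ≃+* F),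
      Fintype.card F = Nat.card (Subgroup.center P) ∧ φ ≠ RingEquiv.refl F ∧ Odd (orderOf φ) ∧
        Nonempty (P ≃* Cfsg.suzukiTypeA F (φ : F →+* F)) := by
  classical
  haveI : Finite P := hP.1
  obtain ⟨k, hk⟩ := exists_regGen hP
  have h2 : IsPGroup 2 P := hP.2.1
  obtain ⟨a0, b0, hab0⟩ := hP.2.2.1
  obtain ⟨z1, z2, -, hz1, hz1z, -, -⟩ := hP.2.2.2.1
  have hZ2 := center_elementary hP
  have hV : ∀ x : P, x * x = 1 → x ∈ Subgroup.center P := fun x => involution_central hk h2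
  have hcen : ∀ z ∈ Subgroup.center P, ∀ x : P, z * x = x * z := fun z hz x =>
    (Subgroup.mem_center_iff.mp hz x).symm
  have htop : Subgroup.center P < ⊤ := lt_top_iff_ne_top.mpr fun h =>
    hab0 (Subgroup.mem_center_iff.mp (h ▸ Subgroup.mem_top b0 : b0 ∈ Subgroup.center P) a0)
  obtain ⟨M, hZM, -, -, hMinv, hM⟩ :=
    exists_layer (k := k) h2 (C := ⊤) inv_center (fun x _ => Subgroup.mem_top _) htop
  have hcm : ∀ x ∈ M, ∀ p : P, ⁅x, p⁆ ∈ Subgroup.center P := fun x hx => (hM x hx).2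
  have hsq : ∀ x ∈ M, x * x ∈ Subgroup.center P := fun x hx => (hM x hx).1
  -- every central element is a square in `M`
  have hroot : ∀ z ∈ Subgroup.center P, ∃ x ∈ M, x * x = z := by
    intro z hz
    by_cases hz1' : z = 1
    · exact ⟨1, one_mem M, by rw [hz1', one_mul]⟩
    obtain ⟨x, hx, hxZ⟩ := SetLike.exists_of_lt hZM
    obtain ⟨i, hi⟩ := hk.trans (x * x) z (fun h => hxZ (hV x h)) (hZ2 _ (hsq x hx)) hz1' (hZ2 z hz)
    exact ⟨(k ^ i) x, hMinv.pow i x hx, by rw [← map_mul, hi]⟩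
  set Z := Subgroup.center P with hZdef
  -- the squaring map on the cosets
  have hMtop : M = ⊤ := by
    refine Subgroup.eq_top_of_card_eq M (le_antisymm (Subgroup.card_le_card_group M) ?_)
    choose r hrM hr using fun z : Z => hroot z.1 z.2
    rw [hcard, pow_two, ← Nat.card_prod]
    refine Nat.card_le_card_of_injective
      (fun p : Z × Z => (⟨r p.1 * p.2, mul_mem (hrM _) (hZM.le p.2.2)⟩ : M)) ?_
    rintro ⟨u, v⟩ ⟨u', v'⟩ h
    have h' : r u * v = r u' * v' := congrArg Subtype.val h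
    have hs : ∀ (u v : Z), r u * v * (r u * v) = u := fun u v => by
      calc r u * v * (r u * v) = r u * ((v : P) * r u) * v := by group
        _ = r u * r u * ((v : P) * v) := by rw [hcen v v.2]; group
        _ = u := by rw [hr, hZ2 v v.2, mul_one]
    have hu : u = u' := Subtype.ext (by rw [← hs u v, h', hs])
    subst hu
    rw [Prod.mk.injEq]
    exact ⟨rfl, Subtype.ext (mul_left_cancel h')⟩
  have hsq' : ∀ x : P, x * x ∈ Z := fun x => hsq x (hMtop ▸ Subgroup.mem_top x)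
  have hcm' : ∀ x p : P, ⁅x, p⁆ ∈ Z := fun x => hcm x (hMtop ▸ Subgroup.mem_top x)
  have hmulsq : ∀ x, ∀ z ∈ Z, x * z * (x * z) = x * x := fun x z hz => by
    calc x * z * (x * z) = x * (z * x) * z := by group
      _ = x * x * (z * z) := by rw [hcen z hz]; group
      _ = x * x := by rw [hZ2 z hz, mul_one]
  -- squaring is a bijection between the cosets and the centre
  have hsqinj : ∀ x y : P, x * x = y * y → (x : P ⧸ Z) = y := by
    let S : P ⧸ Z → Z := fun c => Quotient.liftOn' c (fun x => (⟨x * x, hsq' x⟩ : Z)) (fun x y h => by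
      rw [QuotientGroup.leftRel_apply] at h
      refine Subtype.ext ?_
      show x * x = y * y
      rw [← hmulsq x _ h, mul_inv_cancel_left])
    have hbij : Function.Bijective S := by
      refine Function.Surjective.bijective_of_nat_card_le (fun z => ?_) ?_
      · obtain ⟨x, -, hx⟩ := hroot z.1 z.2
        exact ⟨(x : P ⧸ Z), Subtype.ext hx⟩
      · have := Subgroup.card_eq_card_quotient_mul_card_subgroup Z
        rw [hcard, pow_two] at this
        exact (Nat.eq_of_mul_eq_mul_right Nat.card_pos this).ge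
    intro x y h
    exact hbij.1 (Subtype.ext h : S (x : P ⧸ Z) = S (y : P ⧸ Z))
  have hQexp : ∀ c : P ⧸ Z, c * c = 1 := by
    intro c
    obtain ⟨x, rfl⟩ := QuotientGroup.mk_surjective c
    exact (QuotientGroup.eq_one_iff (x * x)).mpr (hsq' x)
  have hQcomm : ∀ x y : P ⧸ Z, x * y = y * x := fun x y => by
    have hinv : ∀ c : P ⧸ Z, c⁻¹ = c := fun c => inv_eq_of_mul_eq_one_right (hQexp c)
    rw [← hinv (x * y), mul_inv_rev, hinv, hinv]
  have hkZ : Z.map (k : P ≃* P).toMonoidHom = Z := by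
    refine Subgroup.eq_of_le_of_card_ge ?_ ?_
    · rintro _ ⟨z, hz, rfl⟩
      exact inv_center z hz
    · rw [Subgroup.card_map_of_injective (k : P ≃* P).injective]
  set k' : (P ⧸ Z) ≃* (P ⧸ Z) := QuotientGroup.congr Z Z k hkZ with hk'
  have hk'mk : ∀ x : P, k' (x : P ⧸ Z) = ((k x : P) : P ⧸ Z) := fun x => rfl
  have hk'pow : ∀ (i : ℕ) (x : P), ((k' : MulAut _) ^ i) (x : P ⧸ Z) = (((k ^ i) x : P) : P ⧸ Z) := by
    intro i
    induction i with
    | zero => exact fun x => rfl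
    | succ i ih => exact fun x => by rw [pow_succ', pow_succ', MulAut.mul_apply, ih, MulAut.mul_apply, hk'mk]
  obtain ⟨r0, -, hr0⟩ := hroot z1 (hV z1 hz1z)
  have hr0Z : (r0 : P ⧸ Z) ≠ 1 := fun h => hz1 (by
    rw [← hr0]; exact hZ2 r0 ((QuotientGroup.eq_one_iff r0).mp h))
  obtain ⟨F, iF, iFin, iC, ρ, e, hρ, heinj, headd, he1, herange, hemul⟩ :=
    exists_field_of_involutions k' (fun x y _ _ => hQcomm x y) (r0 : P ⧸ Z) hr0Z (hQexp _) (by
      intro c hc1 _
      obtain ⟨x, rfl⟩ := QuotientGroup.mk_surjective c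
      obtain ⟨i, hi⟩ := hk.trans (r0 * r0) (x * x) (hr0.symm ▸ hz1) (hZ2 _ (hsq' r0))
        (fun h => hc1 ((QuotientGroup.eq_one_iff x).mpr (hV x h))) (hZ2 _ (hsq' x))
      refine ⟨i, ?_⟩
      rw [hk'pow]
      exact hsqinj _ _ (by rw [← map_mul, hi]))
  obtain ⟨F₂, iF₂, iFin₂, iC₂, l₂, e₂, hl₂, he₂inj, he₂add, he₂1, he₂range, he₂mul⟩ :=
    exists_field_of_involutions k (fun x y hx _ => hcen x (hV x hx) y) z1 hz1 hz1z
      (fun v hv1 hv => hk.trans z1 v hz1 hz1z hv1 hv)
  have hcardF : Fintype.card F = Nat.card Z := by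
    rw [← Nat.card_eq_fintype_card]
    have h1 : Nat.card F = Nat.card (P ⧸ Z) :=
      Nat.card_congr (Equiv.ofBijective e ⟨heinj, fun c => (herange c).mp (hQexp c)⟩)
    have h2 := Subgroup.card_eq_card_quotient_mul_card_subgroup Z
    rw [hcard, pow_two] at h2
    rw [h1, ← Nat.eq_of_mul_eq_mul_right Nat.card_pos h2]
  have hcardF₂ : Fintype.card F₂ = Nat.card Z := by
    rw [← Nat.card_eq_fintype_card]
    refine Nat.card_congr (Equiv.ofBijective (fun x => (⟨e₂ x, hV _ ((he₂range _).mpr ⟨x, rfl⟩)⟩ : Z))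
      ⟨fun x y h => he₂inj (congrArg Subtype.val h), fun z => ?_⟩)
    obtain ⟨x, hx⟩ := (he₂range z.1).mp (hZ2 z.1 z.2)
    exact ⟨x, Subtype.ext hx⟩
  have hθ : Nonempty (F₂ ≃+* F) := by
    refine ⟨FiniteField.ringEquivOfCardEq ?_⟩
    first
      | rw [hcardF₂, hcardF]
      | rw [Nat.card_eq_fintype_card, Nat.card_eq_fintype_card, hcardF₂, hcardF]
  obtain ⟨θ⟩ := hθ
  -- `η` identifies `F` with the centre
  let η : Multiplicative F →* P :=
    MonoidHom.mk' (fun y => e₂ (θ.symm y.toAdd)) (fun x y => by rw [toAdd_mul, map_add, he₂add])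
  have hηinj : Function.Injective η := fun x y h =>
    Multiplicative.toAdd.injective (θ.symm.injective (he₂inj h))
  have hηZ : ∀ y, η y ∈ Z := fun y => hV _ ((he₂range _).mpr ⟨_, rfl⟩)
  have hηsurj : ∀ z ∈ Z, ∃ y, η y = z := by
    intro z hz
    obtain ⟨x, hx⟩ := (he₂range z).mp (hZ2 z hz)
    exact ⟨Multiplicative.ofAdd (θ x), by simp [η, hx]⟩
  choose L hL using fun u : F => QuotientGroup.mk_surjective (e u)
  choose Q hQ using fun u : F => hηsurj _ (hsq' (L u))
  set m : F := θ l₂ with hm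
  let Qf : F → F := fun u => (Q u).toAdd
  have hQf : ∀ u, η (Multiplicative.ofAdd (Qf u)) = L u * L u := fun u => hQ u
  have hsame : ∀ (x : P) (u : F), (x : P ⧸ Z) = e u → x * x = L u * L u := by
    intro x u h
    rw [← hmulsq (L u) ((L u)⁻¹ * x) (QuotientGroup.eq.mp ((hL u).trans h.symm)), mul_inv_cancel_left]
  have he0 : e 0 = 1 := by
    have := headd 0 0
    rw [add_zero] at this
    exact mul_eq_right.mp this.symm
  have hQ0 : Qf 0 = 0 := by
    have h : η (Multiplicative.ofAdd (Qf 0)) = η 1 := by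
      rw [hQf, ← hsame 1 0 he0.symm, one_mul, map_one]
    exact ofAdd_eq_one.mp (hηinj h)
  have hη1 : η (Multiplicative.ofAdd (1 : F)) = z1 := by
    show e₂ (θ.symm 1) = z1
    rw [map_one, he₂1]
  have hQ1 : Qf 1 = 1 := by
    have h : η (Multiplicative.ofAdd (Qf 1)) = η (Multiplicative.ofAdd 1) := by
      rw [hQf, ← hsame r0 1 he1.symm, hr0, hη1]
    exact Multiplicative.ofAdd.injective (hηinj h)
  have hQρ : ∀ x, Qf (ρ * x) = m * Qf x := by
    intro x
    have h : η (Multiplicative.ofAdd (Qf (ρ * x))) = η (Multiplicative.ofAdd (m * Qf x)) := by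
      rw [hQf, ← hsame (k (L x)) (ρ * x) (by rw [hemul, ← hL x, hk'mk]), ← map_mul, ← hQf x]
      show k (e₂ (θ.symm (Qf x))) = e₂ (θ.symm (m * Qf x))
      rw [← he₂mul, map_mul, hm, RingEquiv.symm_apply_apply]
    exact Multiplicative.ofAdd.injective (hηinj h)
  -- the commutator form
  have hBex : ∀ u v : F, ∃ y, η y = ⁅(L u)⁻¹, L v⁆ := fun u v => hηsurj _ (hcm' _ _)
  choose Bf hBf using hBex
  let B' : F → F → F := fun u v => (Bf u v).toAdd
  have hB' : ∀ u v, η (Multiplicative.ofAdd (B' u v)) = ⁅(L u)⁻¹, L v⁆ := fun u v => hBf u v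
  have hQB : ∀ u v, Qf (u + v) = Qf u + Qf v + B' u v := by
    intro u v
    have h : η (Multiplicative.ofAdd (Qf (u + v))) =
        η (Multiplicative.ofAdd (Qf u + Qf v + B' u v)) := by
      rw [hQf, ← hsame (L u * L v) (u + v) (by rw [headd, QuotientGroup.mk_mul, hL, hL]), sq_mul,
        ofAdd_add, ofAdd_add, map_mul, map_mul, hQf, hQf, hB', mul_assoc, hcen _ (hcm' _ _),
        ← mul_assoc]
    exact Multiplicative.ofAdd.injective (hηinj h)
  have hmulL : ∀ a a' b : P, ⁅a * a', b⁆ = ⁅a, b⁆ * ⁅a', b⁆ := fun a a' b => by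
    rw [show ⁅a * a', b⁆ = a * ⁅a', b⁆ * a⁻¹ * ⁅a, b⁆ by simp only [commutatorElement_def]; group,
      ← hcen _ (hcm' a' b) a, mul_inv_cancel_right, hcen _ (hcm' a' b)]
  have hmulR : ∀ a b b' : P, ⁅a, b * b'⁆ = ⁅a, b⁆ * ⁅a, b'⁆ := fun a b b' => by
    rw [show ⁅a, b * b'⁆ = ⁅a, b⁆ * (b * ⁅a, b'⁆ * b⁻¹) by simp only [commutatorElement_def]; group,
      ← hcen _ (hcm' a b') b, mul_inv_cancel_right]
  have hcongr : ∀ a a' b : P, (a : P ⧸ Z) = a' → ⁅a, b⁆ = ⁅a', b⁆ ∧ ⁅b, a⁆ = ⁅b, a'⁆ := by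
    intro a a' b h
    have hd := QuotientGroup.eq.mp h
    have ha' : a' = a * (a⁻¹ * a') := by group
    rw [ha', hmulL, hmulR, commutatorElement_eq_one_iff_mul_comm.mpr (hcen _ hd b),
      commutatorElement_eq_one_iff_mul_comm.mpr (hcen _ hd b).symm, mul_one, mul_one]
    exact ⟨rfl, rfl⟩
  have hBl : ∀ u u' v, B' (u + u') v = B' u v + B' u' v := by
    intro u u' v
    have h : η (Multiplicative.ofAdd (B' (u + u') v)) =
        η (Multiplicative.ofAdd (B' u v + B' u' v)) := by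
      rw [ofAdd_add, map_mul, hB', hB', hB', ← hmulL]
      refine (hcongr _ _ _ ?_).1
      rw [QuotientGroup.mk_inv, QuotientGroup.mk_mul, QuotientGroup.mk_inv, QuotientGroup.mk_inv,
        hL, hL, hL, headd, mul_inv_rev]
      exact hQcomm _ _
    exact Multiplicative.ofAdd.injective (hηinj h)
  have hBr : ∀ u v v', B' u (v + v') = B' u v + B' u v' := by
    intro u v v'
    have h : η (Multiplicative.ofAdd (B' u (v + v'))) =
        η (Multiplicative.ofAdd (B' u v + B' u v')) := by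
      rw [ofAdd_add, map_mul, hB', hB', hB', ← hmulR]
      refine (hcongr _ _ _ ?_).2
      rw [QuotientGroup.mk_mul, hL, hL, hL, headd]
    exact Multiplicative.ofAdd.injective (hηinj h)
  let B : F →+ F →+ F := AddMonoidHom.mk' (fun u => AddMonoidHom.mk' (B' u) (hBr u))
    fun u u' => AddMonoidHom.ext fun v => hBl u u' v
  have hBne : B ≠ 0 := by
    intro h
    refine hab0 ?_
    rw [← commutatorElement_eq_one_iff_mul_comm]
    obtain ⟨u, hu⟩ := (herange _).mp (hQexp (a0⁻¹ : P))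
    obtain ⟨v, hv⟩ := (herange _).mp (hQexp (b0 : P))
    rw [(hcongr a0 (L u)⁻¹ b0 (by rw [QuotientGroup.mk_inv, hL, hu, QuotientGroup.mk_inv, inv_inv])).1,
      (hcongr b0 (L v) _ (by rw [hL, hv])).2, ← hB', show B' u v = 0 from
        DFunLike.congr_fun (DFunLike.congr_fun h u) v, ofAdd_zero, map_one]
  obtain ⟨σ, τ, hst, hQσ⟩ := exists_pair_of_quadratic hρ Qf B hQB hBne hQ0 hQ1 hQρ
  set φ : F ≃+* F := σ.symm.trans τ with hφ
  have hg : ∀ u : F, u * φ u = Qf (σ.symm u) := fun u => by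
    rw [hQσ, hφ, RingEquiv.trans_apply, RingEquiv.apply_symm_apply]
  have hQinj : Function.Injective Qf := by
    intro u v h
    refine heinj ?_
    rw [← hL u, ← hL v]
    exact hsqinj _ _ (by rw [← hQf, ← hQf, h])
  refine ⟨F, iF, iFin, φ, hcardF, fun h => hst (RingEquiv.ext fun x => ?_), ?_, ?_⟩
  · have := RingEquiv.congr_fun h (σ x)
    rw [hφ, RingEquiv.trans_apply, RingEquiv.symm_apply_apply] at this
    exact this.symm
  · refine odd_orderOf_of_injective φ fun u v h => σ.symm.injective (hQinj ?_)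
    simp only [hg] at h
    exact h
  obtain ⟨πT, ηT, hπT, hηTinj, hkT, hcT, hgT⟩ := exists_typeA_extension (φ : F →+* F)
  let eE : F ≃ P ⧸ Z := Equiv.ofBijective e ⟨heinj, fun c => (herange c).mp (hQexp c)⟩
  have heE : ∀ u, eE u = e u := fun u => rfl
  let πP : P →* Multiplicative F :=
    MonoidHom.mk' (fun p => Multiplicative.ofAdd (σ (eE.symm (p : P ⧸ Z)))) (fun p p' => by
      rw [← ofAdd_add, ← map_add]
      congr 2
      apply eE.injective
      rw [heE (eE.symm (p : P ⧸ Z) + eE.symm (p' : P ⧸ Z)), headd, ← heE, ← heE,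
        Equiv.apply_symm_apply, Equiv.apply_symm_apply, Equiv.apply_symm_apply, QuotientGroup.mk_mul])
  refine nonempty_mulEquiv_of_squares
    (g := fun u : Multiplicative F => Multiplicative.ofAdd (u.toAdd * φ u.toAdd))
    (fun y : Multiplicative F => Multiplicative.toAdd.injective (CharTwo.add_self_eq_zero y.toAdd))
    πP πT ?_ hπT η ηT hηinj hηTinj ?_ hkT (fun y p => hcen _ (hηZ y) p) hcT ?_ hgT
  · intro u
    obtain ⟨p, hp⟩ := QuotientGroup.mk_surjective (eE (σ.symm u.toAdd))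
    exact ⟨p, by simp [πP, hp]⟩
  · have hker : ∀ p, πP p = 1 ↔ p ∈ Z := fun p => by
      show Multiplicative.ofAdd (σ (eE.symm (p : P ⧸ Z))) = 1 ↔ p ∈ Z
      rw [ofAdd_eq_one, map_eq_zero_iff σ σ.injective, Equiv.symm_apply_eq, heE, he0,
        QuotientGroup.eq_one_iff]
    refine le_antisymm ?_ fun p hp => ?_
    · rintro _ ⟨y, rfl⟩
      exact MonoidHom.mem_ker.mpr ((hker _).mpr (hηZ y))
    · exact MonoidHom.mem_range.mpr (hηsurj p ((hker p).mp (MonoidHom.mem_ker.mp hp)))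
  · intro p
    set w := eE.symm (p : P ⧸ Z) with hw
    rw [hsame p w (by rw [← heE, hw, Equiv.apply_symm_apply]), ← hQf]
    congr 2
    show Qf w = σ w * φ (σ w)
    rw [hg, RingEquiv.symm_apply_apply]

end Cfsg.Agent.Lib.SuzukiTwo
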