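import Cfsg.Agent.Lib.SuzukiTwo.Exponent

/-!
Higman: the central quotient of a Suzuki 2-group is elementary abelian, of order `q` or `q²`.
-/

set_option autoImplicit false
set_option linter.unusedSectionVars false
set_option maxHeartbeats 400000

open scoped commutatorElement

namespace Cfsg.Agent.Lib.SuzukiTwo

variable {P : Type*} [Group P] [Finite P] {k : MulAut P}

theorem squares_central (hP : Cfsg.IsSuzukiTwoGroup P) (hk : IsRegGen k) :
    (∀ x : P, x * x ∈ Subgroup.center P) ∧ ∀ x p : P, ⁅x, p⁆ ∈ Subgroup.center P := by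
  classical
  have hZ2 := center_elementary hP
  have hfour : ∀ A : Subgroup P, Good k A → ∀ a ∈ A, a ^ 4 = 1 := fun A hA => pow_four_of_good hP hk hA
  obtain ⟨-, h2, ⟨a0, b0, hab0⟩, htwo, -⟩ := hP
  have hV : ∀ x : P, x * x = 1 → x ∈ Subgroup.center P := fun x => involution_central hk h2
  have hZc : ∀ z ∈ Subgroup.center P, ∀ p : P, z * p = p * z := fun z hz p =>
    (Subgroup.mem_center_iff.mp hz p).symm
  have htop : Subgroup.center P < ⊤ := lt_top_iff_ne_top.mpr fun h =>
    hab0 (Subgroup.mem_center_iff.mp (h ▸ Subgroup.mem_top b0 : b0 ∈ Subgroup.center P) a0)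
  obtain ⟨U, hZU, -, hUn, hUinv, hU, hUmax⟩ :=
    exists_layer_max h2 (C := ⊤) inv_center (fun x _ => Subgroup.mem_top _) htop
  by_cases hUtop : U = ⊤
  · exact ⟨fun x => (hU x (hUtop ▸ Subgroup.mem_top x)).1,
      fun x => (hU x (hUtop ▸ Subgroup.mem_top x)).2⟩
  haveI := hUn
  have hUd : ∀ u ∈ U, ∀ p : P, ⁅p, u⁆ ∈ Subgroup.center P := fun u hu p => by
    rw [← commutatorElement_inv]; exact inv_mem ((hU u hu).2 p)
  -- squares and commutators centralise `U`
  have hχ : ∀ u ∈ U, ∀ p p' : P, ⁅p * p', u⁆ = ⁅p, u⁆ * ⁅p', u⁆ := by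
    intro u hu p p'
    rw [show ⁅p * p', u⁆ = p * ⁅p', u⁆ * p⁻¹ * ⁅p, u⁆ by
      simp only [commutatorElement_def]; group, ← hZc _ (hUd u hu p') p, mul_inv_cancel_right,
      hZc _ (hUd u hu p')]
  have hsqC : ∀ p : P, p * p ∈ Subgroup.centralizer (U : Set P) := fun p =>
    Subgroup.mem_centralizer_iff.mpr fun u hu =>
      (commutatorElement_eq_one_iff_mul_comm.mp (by rw [hχ u hu, hZ2 _ (hUd u hu p)])).symm
  have hcmC : ∀ p p' : P, ⁅p, p'⁆ ∈ Subgroup.centralizer (U : Set P) := fun p p' =>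
    Subgroup.mem_centralizer_iff.mpr fun u hu =>
      (commutatorElement_eq_one_iff_mul_comm.mp (by
        have h1 : ∀ g : P, ⁅g⁻¹, u⁆ = ⁅g, u⁆ := fun g => by
          have h := hχ u hu g⁻¹ g
          rw [inv_mul_cancel, commutatorElement_one_left] at h
          rw [eq_inv_of_mul_eq_one_left h.symm, inv_eq_of_mul_eq_one_right (hZ2 _ (hUd u hu g))]
        rw [commutatorElement_def p p', hχ u hu, hχ u hu, hχ u hu, h1, h1,
          hZc _ (hUd u hu p) ⁅p', u⁆, mul_assoc ⁅p', u⁆, hZ2 _ (hUd u hu p), mul_one,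
          hZ2 _ (hUd u hu p')])).symm
  -- the centre of `U`
  set A0 : Subgroup P := U ⊓ Subgroup.centralizer (U : Set P) with hA0
  have hA0U : A0 ≤ U := inf_le_left
  have hZA : Subgroup.center P ≤ A0 := fun z hz =>
    ⟨hZU.le hz, Subgroup.mem_centralizer_iff.mpr fun u _ => Subgroup.mem_center_iff.mp hz u⟩
  have hcA : ∀ x ∈ A0, ∀ y ∈ A0, x * y = y * x := fun x hx y hy =>
    (Subgroup.mem_centralizer_iff.mp hx.2 y (hA0U hy)).symm
  have hA0inv : Inv k A0 := fun x hx => ⟨hUinv x hx.1, inv_centralizer hUinv x hx.2⟩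
  haveI hA0n : A0.Normal :=
    ⟨fun x hx g => ⟨hUn.conj_mem x hx.1 g, Subgroup.Normal.conj_mem inferInstance x hx.2 g⟩⟩
  have hA0ne : ∃ a ∈ A0, a ∉ Subgroup.center P := by
    by_contra hall
    push Not at hall
    obtain ⟨W, hUW, -, -, -, hW⟩ :=
      exists_layer h2 (C := ⊤) hUinv (fun x _ => Subgroup.mem_top _) (lt_top_iff_ne_top.mpr hUtop)
    exact hUW.not_ge fun w hw => hUmax w (Subgroup.mem_top w)
      (hall _ ⟨(hW w hw).1, hsqC w⟩) fun p => hall _ ⟨(hW w hw).2 p, hcmC w p⟩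
  obtain ⟨a1, ha1, ha1Z⟩ := hA0ne
  have ha1ne : a1 * a1 ≠ 1 := fun h => ha1Z (hV a1 h)
  have hsqA : ∀ a ∈ A0, a * a ∈ Subgroup.center P := fun a ha => (hU a (hA0U ha)).1
  have ha11 : a1 * a1 * (a1 * a1) = 1 := hZ2 _ (hsqA a1 ha1)
  have hroot : ∀ z : P, z * z = 1 → ∃ a ∈ A0, a * a = z := by
    intro z hz
    by_cases hz1 : z = 1
    · exact ⟨1, one_mem A0, by rw [hz1, one_mul]⟩
    obtain ⟨i, hi⟩ := hk.trans (a1 * a1) z ha1ne ha11 hz1 hz
    exact ⟨(k ^ i) a1, hA0inv.pow i a1 ha1, by rw [← map_mul, hi]⟩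
  have hsplit : ∀ a ∈ A0, ∀ b ∈ A0, a * b * (a * b) = a * a * (b * b) := fun a ha b hb => by
    calc a * b * (a * b) = a * (b * a) * b := by group
      _ = a * a * (b * b) := by rw [hcA b hb a ha]; group
  -- `A0` is its own centraliser
  have hCA : ∀ p : P, (∀ a ∈ A0, p * a = a * p) → p ∈ A0 := by
    intro p hp
    have hle : A0 ≤ Subgroup.centralizer (A0 : Set P) := fun x hx =>
      Subgroup.mem_centralizer_iff.mpr fun a ha => hcA a ha x hx
    by_contra hpA
    have hlt : A0 < Subgroup.centralizer (A0 : Set P) := lt_of_le_of_ne hle fun h => hpA (by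
      rw [h]; exact Subgroup.mem_centralizer_iff.mpr fun a ha => (hp a ha).symm)
    obtain ⟨M, hAM, hMC, hMn, hMinv, hM⟩ := exists_layer h2 hA0inv (inv_centralizer hA0inv) hlt
    have hcenM : ∀ x ∈ M, ∀ a ∈ A0, x * a = a * x := fun x hx a ha =>
      (Subgroup.mem_centralizer_iff.mp (hMC hx) a ha).symm
    have hexp : HasExp A0 1 := ⟨fun a ha => by
        rw [show 2 ^ (1 + 1) = 2 * 2 from rfl, pow_mul, pow_two a, pow_two]
        exact hZ2 _ (hsqA a ha),
      a1, ha1, by rw [pow_one, pow_two]; exact ha1ne⟩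
    have hMc := commute_of_extend hk h2 hA0inv hcA (fun x hx => hZA (hV x hx)) hexp le_rfl hMinv
      hAM.le hcenM (fun x hx => (hM x hx).1) (fun x hx y _ => (hM x hx).2 y)
    have h4 := hfour M ⟨hZA.trans hAM.le, hMc, hMn, hMinv⟩
    refine hAM.not_ge fun x hx => ?_
    obtain ⟨b, hb, hbb⟩ := hroot (x * x) (by
      rw [← h4 x hx]; simp only [pow_succ, pow_zero, one_mul, mul_assoc])
    have h1 : x * b⁻¹ * (x * b⁻¹) = 1 := by
      calc x * b⁻¹ * (x * b⁻¹) = x * (b⁻¹ * x) * b⁻¹ := by group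
        _ = x * x * (b * b)⁻¹ := by rw [← hcenM x hx b⁻¹ (inv_mem hb)]; group
        _ = 1 := by rw [hbb, mul_inv_cancel]
    have := mul_mem (hZA (hV _ h1)) hb
    rwa [inv_mul_cancel_right] at this
  -- the field on the centre
  obtain ⟨F, iF, iFin, iC, l, ε, hl, hinj, hadd, -, hrange, hmul⟩ :=
    exists_field_of_involutions k (fun x y hx _ => hZc x (hV x hx) y) _ ha1ne ha11
      (fun v hv1 hv => hk.trans _ v ha1ne ha11 hv1 hv)
  have hε0 : ε 0 = 1 := by
    have := hadd 0 0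
    rw [add_zero] at this
    exact mul_eq_right.mp this.symm
  have hε2 : ∀ u, ε u * ε u = 1 := fun u => (hrange _).mpr ⟨u, rfl⟩
  choose L hLA hL2 using fun u : F => hroot (ε u) (hε2 u)
  have hdZ : ∀ p : P, ∀ a ∈ A0, disp p a ∈ Subgroup.center P := fun p a ha => hUd a (hA0U ha) p
  have hcongr : ∀ p : P, ∀ a ∈ A0, ∀ a' ∈ A0, a * a = a' * a' → disp p a = disp p a' := by
    intro p a ha a' ha' h
    have h1 : disp p (a' * a⁻¹) = 1 := by
      simp only [disp]
      rw [← hZc (a' * a⁻¹) (hV _ (by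
        rw [hsplit a' ha' _ (inv_mem ha), ← mul_inv_rev, h, mul_inv_cancel])) p]
      group
    calc disp p a = disp p (a' * a⁻¹) * disp p a := by rw [h1, one_mul]
      _ = disp p a' := by rw [← disp_mul hcA p (mul_mem ha' (inv_mem ha)) ha, inv_mul_cancel_right]
  choose Df hDf using fun (p : P) (u : F) => (hrange _).mp (hZ2 _ (hdZ p _ (hLA u)))
  have hdisp : ∀ p : P, ∀ a ∈ A0, ∀ u : F, a * a = ε u → disp p a = ε (Df p u) := fun p a ha u h => by
    rw [hDf]; exact hcongr p a ha _ (hLA u) (by rw [hL2, h])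
  have hDadd : ∀ p, ∀ u v : F, Df p (u + v) = Df p u + Df p v := fun p u v => hinj (by
    rw [hadd, hDf p u, hDf p v, ← disp_mul hcA p (hLA u) (hLA v),
      hdisp p _ (mul_mem (hLA u) (hLA v)) (u + v) (by rw [hsplit _ (hLA u) _ (hLA v), hL2, hL2, hadd])])
  let D : P → (F →+ F) := fun p => AddMonoidHom.mk' (Df p) (hDadd p)
  have hDp : ∀ p p' : P, D (p * p') = D p + D p' := fun p p' => AddMonoidHom.ext fun u => hinj (by
    show ε (Df (p * p') u) = ε (Df p u + Df p' u)
    rw [hadd, hDf, hDf, hDf]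
    exact hχ _ (hA0U (hLA u)) p p')
  have hD1 : D 1 = 0 := by
    have h := hDp 1 1
    rw [mul_one] at h
    exact left_eq_add.mp h
  have hDinv : ∀ p, D p⁻¹ = D p := fun p => AddMonoidHom.ext fun u => by
    have h := DFunLike.congr_fun (hDp p⁻¹ p) u
    rw [inv_mul_cancel, hD1, AddMonoidHom.zero_apply, AddMonoidHom.add_apply] at h
    exact CharTwo.add_eq_zero.mp h.symm
  have hker : ∀ p, D p = 0 → p ∈ A0 := fun p h => hCA p fun a ha => by
    obtain ⟨u, hu⟩ := (hrange _).mp (hZ2 _ (hsqA a ha))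
    have h1 := hdisp p a ha u hu.symm
    rw [show Df p u = 0 from DFunLike.congr_fun h u, hε0] at h1
    calc p * a = disp p a * a * p := by simp only [disp]; group
      _ = a * p := by rw [h1, one_mul]
  have hsq : ∀ p : P, p * p ∈ A0 := fun p => hker _ (AddMonoidHom.ext fun u => by
    rw [hDp, AddMonoidHom.add_apply, AddMonoidHom.zero_apply, CharTwo.add_self_eq_zero])
  have hcm : ∀ x p : P, ⁅x, p⁆ ∈ A0 := fun x p => hker _ (AddMonoidHom.ext fun u => by
    rw [commutatorElement_def, hDp, hDp, hDp, hDinv, hDinv]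
    simp only [AddMonoidHom.add_apply, AddMonoidHom.zero_apply]
    linear_combination (CharTwo.two_eq_zero (R := F)) * (D x u + D p u))
  -- the squares of squares and of commutators
  choose q' hq' using fun p : P => (hrange _).mp (hZ2 _ (hsqA _ (hsq p)))
  choose β hβ using fun x y : P => (hrange _).mp (hZ2 _ (hsqA _ (hcm x y)))
  have hεne : ∀ u, ε u = 1 → u = 0 := fun u h => hinj (h.trans hε0.symm)
  have hid : ∀ x y : P, D y (q' x) = β y x + D x (β y x) := by
    intro x y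
    refine hinj ?_
    have h2' := hdisp y (x * x) (hsq x) _ (hq' x).symm
    have h3 := hdisp x _ (hcm y x) _ (hβ y x).symm
    show ε (Df y (q' x)) = ε (β y x + Df x (β y x))
    rw [hadd, ← h2', hβ, ← h3]
    set c := ⁅y, x⁆ with hc
    have hz := hdZ x c (hcm y x)
    calc disp y (x * x) = c * (x * c * x⁻¹) := by
          simp only [hc, disp, commutatorElement_def]; group
      _ = c * (disp x c * c) := by simp only [disp]; group
      _ = c * c * disp x c := by rw [hZc _ hz c]; group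
  have hid' : ∀ x : P, D x (q' x) = 0 := fun x => hεne _ (by
    show ε (Df x (q' x)) = 1
    rw [← hdisp x (x * x) (hsq x) _ (hq' x).symm]
    simp only [disp]; group)
  have hβs : ∀ x y, β x y = β y x := fun x y => hinj (by
    rw [hβ, hβ, ← commutatorElement_inv y x, ← mul_inv_rev]
    exact inv_eq_of_mul_eq_one_right (hZ2 _ (hsqA _ (hcm y x))))
  have hβr : ∀ x y y', β x (y * y') = β x y + β x y' := fun x y y' => hinj (by
    rw [hadd, hβ, hβ, hβ]
    set c := ⁅x, y'⁆ with hc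
    have hz := hdZ y c (hcm x y')
    have h1 : ⁅x, y * y'⁆ = ⁅x, y⁆ * (disp y c * c) := by
      simp only [hc, disp, commutatorElement_def]; group
    rw [h1, hsplit _ (hcm x y) _ (mul_mem (hZA hz) (hcm x y')),
      hsplit _ (hZA hz) _ (hcm x y'), hZ2 _ hz, one_mul])
  have hβl : ∀ x x' y, β (x * x') y = β x y + β x' y := fun x x' y => by
    rw [hβs, hβr, hβs y x, hβs y x']
  have hβA : ∀ x, ∀ a ∈ A0, β x a = 0 := fun x a ha => hεne _ (by
    rw [hβ]; exact hZ2 _ (hUd a (hA0U ha) x))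
  have hq'm : ∀ x y, q' (x * y) = q' x + q' y + β x⁻¹ y := fun x y => hinj (by
    rw [hq', hadd, hadd, hq', hq', hβ, sq_mul (x := x) (y := y), hsplit _ (mul_mem (hsq x) (hcm _ _)) _ (hsq y),
      hsplit _ (hsq x) _ (hcm _ _), mul_assoc, mul_assoc (x * x * (x * x)),
      hZc _ (hsqA _ (hsq y))])
  have hq'A : ∀ a ∈ A0, q' a = 0 := fun a ha => hεne _ (by
    rw [hq']; exact hZ2 _ (hsqA a ha))
  -- the additive set of displacements
  let S : AddSubgroup (F →+ F) :=
    { carrier := {E | ∃ p, D p = E}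
      add_mem' := fun {E E'} ⟨p, hp⟩ ⟨p', hp'⟩ => ⟨p * p', by rw [hDp, hp, hp']⟩
      zero_mem' := ⟨1, hD1⟩
      neg_mem' := fun {E} ⟨p, hp⟩ => ⟨p, AddMonoidHom.ext fun u => by
        rw [hp, AddMonoidHom.neg_apply, CharTwo.neg_eq]⟩ }
  have hl0 := hl.ne_zero
  have hkD : ∀ p u, D (k p) (l * u) = l * D p u := fun p u => hinj (by
    show ε (Df (k p) (l * u)) = ε (l * Df p u)
    rw [hmul, hDf p u, disp_map, hdisp (k p) _ (hA0inv _ (hLA u)) (l * u)
      (by rw [← map_mul, hL2, hmul])])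
  have hSinv : ∀ E ∈ S, ∀ E' : F →+ F, (∀ x, E' x = l * E (l⁻¹ * x)) → E' ∈ S := by
    rintro E ⟨p, rfl⟩ E' hE'
    exact ⟨k p, AddMonoidHom.ext fun x => by rw [hE', ← hkD, mul_inv_cancel_left₀ hl0]⟩
  have hgen : ∀ H : Subgroup P, A0 ≤ H →
      (∀ x, (∃ (a : F) (τ : F ≃+* F), a ≠ 0 ∧ ∀ u, D x u = a * τ u) → x ∈ H) → ∀ p, p ∈ H := by
    intro H hAH hH p
    have hmem := hl.mem_closure_pure S hSinv (D := D p) ⟨p, rfl⟩
    have key : ∀ E0 ∈ AddSubgroup.closure
        {E | E ∈ S ∧ ∃ (a : F) (τ : F ≃+* F), a ≠ 0 ∧ ∀ x, E x = a * τ x}, ∃ h ∈ H, D h = E0 := by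
      intro E0 hE0
      induction hE0 using AddSubgroup.closure_induction with
      | mem E hE =>
        obtain ⟨⟨x, rfl⟩, hpure⟩ := hE
        exact ⟨x, hH x hpure, rfl⟩
      | zero => exact ⟨1, one_mem H, hD1⟩
      | add E E' _ _ ih ih' =>
        obtain ⟨h, hh, rfl⟩ := ih
        obtain ⟨h', hh', rfl⟩ := ih'
        exact ⟨h * h', mul_mem hh hh', hDp h h'⟩
      | neg E _ ih =>
        obtain ⟨h, hh, rfl⟩ := ih
        exact ⟨h, hh, AddMonoidHom.ext fun u => by rw [AddMonoidHom.neg_apply, CharTwo.neg_eq]⟩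
    obtain ⟨h, hh, he⟩ := key _ hmem
    have h1 : p * h⁻¹ ∈ A0 := hker _ (AddMonoidHom.ext fun u => by
      rw [hDp, hDinv, he, AddMonoidHom.add_apply, AddMonoidHom.zero_apply, CharTwo.add_self_eq_zero])
    have h2' := mul_mem (hAH h1) hh
    rwa [inv_mul_cancel_right] at h2'
  -- semiregularity of the components
  have hsemi : ∀ x, ∀ (a : F) (τ : F ≃+* F), a ≠ 0 → (∀ u, D x u = a * τ u) →
      IsGen (l * τ l⁻¹) ∧ ∀ i : ℕ, ∀ u, D ((k ^ i) x) u = (l * τ l⁻¹) ^ i * a * τ u := by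
    intro x a τ ha hx
    have hpow : ∀ i : ℕ, ∀ u, D ((k ^ i) x) u = (l * τ l⁻¹) ^ i * a * τ u := by
      intro i
      induction i with
      | zero => intro u; rw [pow_zero, pow_zero, MulAut.one_apply, hx, one_mul]
      | succ i ih =>
        intro u
        rw [pow_succ', MulAut.mul_apply, ← mul_inv_cancel_left₀ hl0 u, hkD, ih,
          mul_inv_cancel_left₀ hl0 u, map_mul]
        ring
    refine ⟨?_, hpow⟩
    set μ := l * τ l⁻¹ with hμ
    have hμ0 : μ ≠ 0 := mul_ne_zero hl0 (by simpa using hl0)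
    refine Nat.dvd_antisymm
      (orderOf_dvd_of_pow_eq_one (FiniteField.pow_card_sub_one_eq_one μ hμ0)) ?_
    rw [← hl]
    refine orderOf_dvd_of_pow_eq_one ?_
    set i := orderOf μ
    have hfix : x⁻¹ * (k ^ i) x ∈ A0 := hker _ (AddMonoidHom.ext fun u => by
      rw [hDp, hDinv, AddMonoidHom.add_apply, AddMonoidHom.zero_apply, hpow, pow_orderOf_eq_one,
        one_mul, hx, CharTwo.add_self_eq_zero])
    have hki : k ^ i = 1 := by
      by_contra hne
      have hfpf : ∀ y : P, (k ^ i) y = y → y = 1 := by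
        intro y hy
        by_contra hy1
        obtain ⟨n, hn⟩ := IsPGroup.iff_orderOf.mp h2 y
        have hn0 : n ≠ 0 := fun h => hy1 (orderOf_eq_one_iff.mp (by rw [hn, h]; rfl))
        set z := y ^ (orderOf y / 2) with hz
        have hzo : orderOf z = 2 :=
          orderOf_pow_orderOf_div (orderOf_pos y).ne' (hn ▸ dvd_pow_self 2 hn0)
        exact hne (hk.semireg i z (fun h => by rw [h, orderOf_one] at hzo; omega)
          (by rw [← pow_two, ← hzo, pow_orderOf_eq_one]) (by rw [hz, map_pow, hy]))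
      have hxA := mem_of_fixed_coset hfpf (N := A0) (fun y hy => hA0inv.pow i y hy) hfix
      have h0 : D x 1 = 0 := hinj (by
        show ε (Df x 1) = ε 0
        rw [← hdisp x (L 1) (hLA 1) 1 (hL2 1), hε0]
        simp only [disp]
        rw [hcA x hxA _ (hLA 1)]; group)
      rw [hx, map_one, mul_one] at h0
      exact ha h0
    have hli : ∀ j : ℕ, ε (l ^ j * 1) = (k ^ j) (ε 1) := by
      intro j
      induction j with
      | zero => simp
      | succ j ih => rw [pow_succ', mul_assoc, hmul, ih, pow_succ', MulAut.mul_apply]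
    have := hli i
    rw [hki, MulAut.one_apply, mul_one] at this
    exact hinj this
  have hcard2 : 2 < Fintype.card F := by
    obtain ⟨x, y, hxy, hx1, hx, hy1, hy⟩ := htwo
    obtain ⟨u, hu⟩ := (hrange x).mp hx
    obtain ⟨v, hv⟩ := (hrange y).mp hy
    exact Fintype.two_lt_card_iff.mpr ⟨0, u, v, fun h => hx1 (by rw [← hu, ← h, hε0]),
      fun h => hy1 (by rw [← hv, ← h, hε0]), fun h => hxy (by rw [← hu, ← hv, h])⟩
  -- pure elements
  have hq'pure : ∀ x, (∃ (a : F) (τ : F ≃+* F), a ≠ 0 ∧ ∀ u, D x u = a * τ u) → q' x = 0 := by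
    rintro x ⟨a, τ, ha, hx⟩
    have h := hid' x
    rw [hx, mul_eq_zero] at h
    exact (map_eq_zero_iff τ τ.injective).mp (h.resolve_left ha)
  have hβpure : ∀ x y, (∃ (a : F) (τ : F ≃+* F), a ≠ 0 ∧ ∀ u, D x u = a * τ u) →
      (∃ (a : F) (τ : F ≃+* F), a ≠ 0 ∧ ∀ u, D y u = a * τ u) → β x y = 0 := by
    rintro x y ⟨a, τ, ha, hx⟩ ⟨a', τ', ha', hy⟩
    obtain ⟨hμx, -⟩ := hsemi x a τ ha hx
    obtain ⟨hμy, hpow⟩ := hsemi y a' τ' ha' hy
    have hall : ∀ c : F, ∃ z, ∀ u, D z u = c * τ' u := by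
      intro c
      by_cases hc : c = 0
      · exact ⟨1, fun u => by rw [hD1, hc, zero_mul]; rfl⟩
      · obtain ⟨i, hi⟩ := hμy.exists_pow (mul_ne_zero hc (inv_ne_zero ha'))
        exact ⟨(k ^ i) y, fun u => by rw [hpow, hi, inv_mul_cancel_right₀ ha']⟩
    choose Y hY using hall
    have hwd : ∀ z z', D z = D z' → β x z = β x z' := fun z z' h => by
      have h1 : z⁻¹ * z' ∈ A0 := hker _ (AddMonoidHom.ext fun u => by
        rw [hDp, hDinv, h, AddMonoidHom.add_apply, AddMonoidHom.zero_apply, CharTwo.add_self_eq_zero])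
      have h2' := hβr x z (z⁻¹ * z')
      rw [mul_inv_cancel_left, hβA x _ h1, add_zero] at h2'
      exact h2'.symm
    have hYadd : ∀ c c', β x (Y (c + c')) = β x (Y c) + β x (Y c') := fun c c' => by
      rw [← hβr]
      refine hwd _ _ (AddMonoidHom.ext fun u => ?_)
      rw [hY, hDp, AddMonoidHom.add_apply, hY, hY, add_mul]
    let hh : F →+ F := AddMonoidHom.mk' (fun c => β x (Y c)) hYadd
    have hsol : ∀ c, hh c ≠ 0 → c * τ' (hh c) = hh c ∧ a * τ (hh c) = hh c := by
      intro c hc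
      have hc0 : c ≠ 0 := fun h => hc (by rw [h, map_zero])
      have hqY : q' (Y c) = 0 := hq'pure _ ⟨c, τ', hc0, hY c⟩
      have hqx : q' x = 0 := hq'pure _ ⟨a, τ, ha, hx⟩
      constructor
      · have h := hid (Y c) x
        rw [hqY, map_zero, hY] at h
        exact (CharTwo.add_eq_zero.mp h.symm).symm
      · have h := hid x (Y c)
        rw [hqx, map_zero, hx, hβs] at h
        exact (CharTwo.add_eq_zero.mp h.symm).symm
    have hzero : ∀ c, hh c = 0 := by
      by_contra hnz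
      push Not at hnz
      obtain ⟨c1, hc1⟩ := hnz
      have hinj' : Function.Injective hh := by
        refine (injective_iff_map_eq_zero hh).mpr fun c hc => ?_
        by_contra hc0
        have e : hh (c + c1) = hh c1 := by rw [map_add, hc, zero_add]
        have h1 := (hsol (c + c1) (by rw [e]; exact hc1)).1
        have h2' := (hsol c1 hc1).1
        rw [e] at h1
        exact hc0 (add_eq_right.mp (mul_right_cancel₀
          (show τ' (hh c1) ≠ 0 by simpa using hc1) (h1.trans h2'.symm)))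
      have hfix : ∀ u, a * τ u = u := by
        intro u
        obtain ⟨c, rfl⟩ := (Finite.injective_iff_surjective.mp hinj') u
        by_cases hc : hh c = 0
        · rw [hc, map_zero, mul_zero]
        · exact (hsol c hc).2
      have ha1' : a = 1 := by simpa using hfix 1
      have hτ : τ l⁻¹ = l⁻¹ := by simpa [ha1'] using hfix l⁻¹
      rw [hτ, mul_inv_cancel₀ hl0, IsGen, orderOf_one] at hμx
      omega
    have hyY : D y = D (Y a') := AddMonoidHom.ext fun u => by rw [hy, hY]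
    rw [hwd _ _ hyY]
    exact hzero a'
  -- conclusion
  have hβ0 : ∀ x y, β x y = 0 := by
    have hβone : ∀ x, β x 1 = 0 := fun x => hβA x 1 (one_mem A0)
    have hβinv : ∀ x y, β x y⁻¹ = β x y := fun x y => by
      have h := hβr x y⁻¹ y
      rw [inv_mul_cancel, hβone] at h
      exact CharTwo.add_eq_zero.mp h.symm
    have h1 : ∀ x, (∃ (a : F) (τ : F ≃+* F), a ≠ 0 ∧ ∀ u, D x u = a * τ u) → ∀ y, β x y = 0 :=
      fun x hx => hgen
        { carrier := {y | β x y = 0}
          mul_mem' := fun {y y'} (hy : β x y = 0) (hy' : β x y' = 0) =>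
            show β x (y * y') = 0 by rw [hβr, hy, hy', add_zero]
          one_mem' := hβone x
          inv_mem' := fun {y} (hy : β x y = 0) => show β x y⁻¹ = 0 by rw [hβinv]; exact hy }
        (fun a ha => hβA x a ha) fun y hy => hβpure x y hx hy
    intro x y
    refine hgen
      { carrier := {x | β x y = 0}
        mul_mem' := fun {x x'} (hx : β x y = 0) (hx' : β x' y = 0) =>
          show β (x * x') y = 0 by rw [hβl, hx, hx', add_zero]
        one_mem' := show β 1 y = 0 by rw [hβs, hβone]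
        inv_mem' := fun {x} (hx : β x y = 0) => show β x⁻¹ y = 0 by
          rw [hβs, hβinv, ← hβs]; exact hx }
      (fun a ha => show β a y = 0 by rw [hβs]; exact hβA y a ha) (fun z hz => h1 z hz y) x
  have hq0 : ∀ x, q' x = 0 := hgen
    { carrier := {x | q' x = 0}
      mul_mem' := fun {x y} (hx : q' x = 0) (hy : q' y = 0) =>
        show q' (x * y) = 0 by rw [hq'm, hx, hy, hβ0, add_zero, add_zero]
      one_mem' := hq'A 1 (one_mem A0)
      inv_mem' := fun {x} (hx : q' x = 0) => show q' x⁻¹ = 0 by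
        have h := hq'm x⁻¹ x
        rw [inv_mul_cancel, hq'A 1 (one_mem A0), hx, hβ0, add_zero, add_zero] at h
        exact h.symm }
    hq'A hq'pure
  exact ⟨fun x => hV _ (by rw [← hq', hq0, hε0]), fun x p => hV _ (by rw [← hβ, hβ0, hε0])⟩

theorem card_exponent (hP : Cfsg.IsSuzukiTwoGroup P) (hk : IsRegGen k) :
    (Nat.card P = Nat.card (Subgroup.center P) ^ 2 ∨
      Nat.card P = Nat.card (Subgroup.center P) ^ 3) ∧ Monoid.exponent P = 4 := by
  classical
  obtain ⟨hsq, hcm⟩ := squares_central hP hk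
  have hZ2 := center_elementary hP
  obtain ⟨-, h2, ⟨a0, b0, hab0⟩, htwo, -⟩ := hP
  set Z := Subgroup.center P with hZdef
  have hV : ∀ x : P, x * x = 1 → x ∈ Z := fun x => involution_central hk h2
  have hZc : ∀ z ∈ Z, ∀ p : P, z * p = p * z := fun z hz p =>
    (Subgroup.mem_center_iff.mp hz p).symm
  have ha0 : a0 * a0 ≠ 1 := fun h => hab0 (hZc _ (hV _ h) b0)
  have hexp : Monoid.exponent P = 4 := by
    have hd : Monoid.exponent P ∣ 2 ^ 2 := Monoid.exponent_dvd_of_forall_pow_eq_one fun g => by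
      show g ^ (2 * 2) = 1
      rw [pow_mul, pow_two g, pow_two]
      exact hZ2 _ (hsq g)
    obtain ⟨j, hj, hje⟩ := (Nat.dvd_prime_pow Nat.prime_two).mp hd
    have hpow := Monoid.pow_exponent_eq_one a0
    rw [hje] at hpow ⊢
    interval_cases j
    · rw [pow_zero, pow_one] at hpow
      exact absurd (by rw [hpow, one_mul]) ha0
    · rw [pow_one, pow_two] at hpow
      exact absurd hpow ha0
    · rfl
  refine ⟨?_, hexp⟩
  -- the squaring map on the central quotient
  have hQexp : ∀ c : P ⧸ Z, c * c = 1 := by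
    intro c
    obtain ⟨x, rfl⟩ := QuotientGroup.mk_surjective c
    exact (QuotientGroup.eq_one_iff (x * x)).mpr (hsq x)
  letI : CommGroup (P ⧸ Z) := { (inferInstance : Group (P ⧸ Z)) with
    mul_comm := fun x y => by
      have hinv : ∀ c : P ⧸ Z, c⁻¹ = c := fun c => inv_eq_of_mul_eq_one_right (hQexp c)
      rw [← hinv (x * y), mul_inv_rev, hinv, hinv] }
  obtain ⟨z1, -, -, hz1, hz1z, -⟩ := htwo
  obtain ⟨F, iF, iFin, iC, l, ε, hl, hinj, hadd, -, hrange, hmul⟩ :=
    exists_field_of_involutions k (fun x y hx _ => hZc x (hV x hx) y) z1 hz1 hz1z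
      (fun v hv1 hv => hk.trans z1 v hz1 hz1z hv1 hv)
  have hcardF : Nat.card F = Nat.card Z := by
    refine Nat.card_congr (Equiv.ofBijective (fun x => (⟨ε x, hV _ ((hrange _).mpr ⟨x, rfl⟩)⟩ : Z))
      ⟨fun x y h => hinj (congrArg Subtype.val h), fun z => ?_⟩)
    obtain ⟨x, hx⟩ := (hrange z.1).mp (hZ2 z.1 z.2)
    exact ⟨x, Subtype.ext hx⟩
  have hε0 : ε 0 = 1 := by
    have := hadd 0 0
    rw [add_zero] at this
    exact mul_eq_right.mp this.symm
  have hmulsq : ∀ x, ∀ z ∈ Z, x * z * (x * z) = x * x := fun x z hz => by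
    calc x * z * (x * z) = x * (z * x) * z := by group
      _ = x * x * (z * z) := by rw [hZc z hz]; group
      _ = x * x := by rw [hZ2 z hz, mul_one]
  choose Qp hQp using fun x : P => (hrange _).mp (hZ2 _ (hsq x))
  choose Bp hBp using fun x y : P => (hrange _).mp (hZ2 _ (hcm x y))
  let r : P ⧸ Z → P := fun c => Quotient.out c
  have hr : ∀ c, (r c : P ⧸ Z) = c := fun c => Quotient.out_eq c
  have hwdQ : ∀ x y : P, (x : P ⧸ Z) = y → Qp x = Qp y := fun x y h => hinj (by
    rw [hQp, hQp, ← hmulsq x _ (QuotientGroup.eq.mp h), mul_inv_cancel_left])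
  have hBl : ∀ x x' y : P, Bp (x * x') y = Bp x y + Bp x' y := fun x x' y => hinj (by
    rw [hadd, hBp, hBp, hBp, show ⁅x * x', y⁆ = x * ⁅x', y⁆ * x⁻¹ * ⁅x, y⁆ by
      simp only [commutatorElement_def]; group, ← hZc _ (hcm x' y) x, mul_inv_cancel_right,
      hZc _ (hcm x' y)])
  have hBr : ∀ x y y' : P, Bp x (y * y') = Bp x y + Bp x y' := fun x y y' => hinj (by
    rw [hadd, hBp, hBp, hBp, show ⁅x, y * y'⁆ = ⁅x, y⁆ * (y * ⁅x, y'⁆ * y⁻¹) by
      simp only [commutatorElement_def]; group, ← hZc _ (hcm x y') y, mul_inv_cancel_right])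
  have hBZ : ∀ x, ∀ z ∈ Z, Bp x z = 0 ∧ Bp z x = 0 := fun x z hz =>
    ⟨hinj (by rw [hBp, hε0, commutatorElement_eq_one_iff_mul_comm, hZc z hz x]),
      hinj (by rw [hBp, hε0, commutatorElement_eq_one_iff_mul_comm, hZc z hz x])⟩
  have hwdB : ∀ x x' y y' : P, (x : P ⧸ Z) = x' → (y : P ⧸ Z) = y' → Bp x y = Bp x' y' := by
    intro x x' y y' hx hy
    rw [show x' = x * (x⁻¹ * x') by group, show y' = y * (y⁻¹ * y') by group, hBl,
      (hBZ _ _ (QuotientGroup.eq.mp hx)).2, add_zero, hBr, (hBZ _ _ (QuotientGroup.eq.mp hy)).1,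
      add_zero]
  let X := Additive (P ⧸ Z)
  let B : X →+ X →+ F := AddMonoidHom.mk'
    (fun a => AddMonoidHom.mk' (fun b => Bp (r a.toMul) (r b.toMul)) (fun b b' => by
      show Bp _ (r (b.toMul * b'.toMul)) = _
      rw [← hBr]
      exact hwdB _ _ _ _ rfl (by rw [hr, QuotientGroup.mk_mul, hr, hr])))
    fun a a' => AddMonoidHom.ext fun b => by
      show Bp (r (a.toMul * a'.toMul)) _ = Bp _ _ + Bp _ _
      rw [← hBl]
      exact hwdB _ _ _ _ (by rw [hr, QuotientGroup.mk_mul, hr, hr]) rfl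
  have hB : ∀ x y : P, B (Additive.ofMul (x : P ⧸ Z)) (Additive.ofMul (y : P ⧸ Z)) = Bp x y :=
    fun x y => hwdB _ _ _ _ (hr _) (hr _)
  have hbound := card_le_sq_of_anisotropic (X := X) (W := F)
    (fun x => congrArg Additive.ofMul (hQexp x.toMul)) CharTwo.add_self_eq_zero
    (fun a => Qp (r a.toMul)) ?_ B ?_ ?_
  rotate_left
  · show Qp (r (1 : P ⧸ Z)) = 0
    rw [hwdQ (r 1) 1 (by rw [hr]; rfl)]
    exact hinj (by rw [hQp, hε0, one_mul])
  · intro a b
    show Qp (r (a.toMul * b.toMul)) = Qp _ + Qp _ + Bp (r a.toMul) (r b.toMul)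
    set x := r a.toMul
    set y := r b.toMul
    rw [hwdQ (r _) (x * y) (by rw [hr, QuotientGroup.mk_mul, hr, hr])]
    refine hinj ?_
    rw [hQp, hadd, hadd, hQp, hQp, hBp, sq_mul, mul_assoc, hZc _ (hcm x⁻¹ y) (y * y), ← mul_assoc,
      ← hBp, ← hBp, hwdB x⁻¹ x y y (by rw [QuotientGroup.mk_inv]; exact inv_eq_of_mul_eq_one_right (hQexp _)) rfl]
  · intro a ha
    have h1 : r a.toMul ∈ Z := hV _ (by rw [← hQp, show Qp (r a.toMul) = 0 from ha, hε0])
    have h2' := (QuotientGroup.eq_one_iff (r a.toMul)).mpr h1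
    rw [hr] at h2'
    exact h2'
  rw [show Nat.card X = Nat.card (P ⧸ Z) from rfl, hcardF] at hbound
  -- the fibres over the non-identity central elements have the same cardinality
  have hfib : ∀ u : F, u ≠ 0 →
      Nat.card {c : P ⧸ Z // Qp (r c) = u} = Nat.card {c : P ⧸ Z // Qp (r c) = 1} := by
    have hkpow : ∀ (j : ℕ) (x : P), Qp ((k ^ j) x) = l ^ j * Qp x := by
      intro j x
      induction j with
      | zero => simp
      | succ j ih =>
        refine hinj ?_
        rw [pow_succ' l, mul_assoc, hmul, ← ih, hQp, hQp, pow_succ', MulAut.mul_apply, map_mul]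
    intro u hu
    obtain ⟨j, rfl⟩ := hl.exists_pow hu
    refine le_antisymm ?_ ?_
    · obtain ⟨j', hj'⟩ := hl.exists_pow (inv_ne_zero hu)
      refine Nat.card_le_card_of_injective
        (fun c => ⟨((k ^ j') (r c.1) : P), by
          rw [hwdQ (r _) ((k ^ j') (r c.1)) (hr _), hkpow, c.2, hj', inv_mul_cancel₀ hu]⟩) ?_
      intro c c' h
      have h1 := QuotientGroup.eq.mp (congrArg Subtype.val h)
      rw [← map_inv, ← map_mul] at h1
      refine Subtype.ext ?_
      rw [← hr c.1, ← hr c'.1, QuotientGroup.eq]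
      refine hV _ ((k ^ j').injective ?_)
      rw [map_mul, map_one]
      exact hZ2 _ h1
    · refine Nat.card_le_card_of_injective
        (fun c => ⟨((k ^ j) (r c.1) : P), by
          rw [hwdQ (r _) ((k ^ j) (r c.1)) (hr _), hkpow, c.2, mul_one]⟩) ?_
      intro c c' h
      have h1 := QuotientGroup.eq.mp (congrArg Subtype.val h)
      rw [← map_inv, ← map_mul] at h1
      refine Subtype.ext ?_
      rw [← hr c.1, ← hr c'.1, QuotientGroup.eq]
      refine hV _ ((k ^ j).injective ?_)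
      rw [map_mul, map_one]
      exact hZ2 _ h1
  have hsum : Nat.card (P ⧸ Z) =
      1 + (Nat.card F - 1) * Nat.card {c : P ⧸ Z // Qp (r c) = 1} := by
    haveI : Fintype (P ⧸ Z) := Fintype.ofFinite _
    rw [Nat.card_eq_fintype_card, ← Finset.card_univ, Finset.card_eq_sum_card_fiberwise
      (f := fun c => Qp (r c)) (t := Finset.univ) (fun _ _ => Finset.mem_univ _),
      ← Finset.add_sum_erase _ _ (Finset.mem_univ (0 : F))]
    congr 1
    · rw [Finset.card_eq_one]
      refine ⟨1, Finset.ext fun c => ?_⟩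
      simp only [Finset.mem_filter, Finset.mem_univ, true_and, Finset.mem_singleton]
      constructor
      · intro h
        rw [← hr c, QuotientGroup.eq_one_iff]
        exact hV _ (by rw [← hQp, h, hε0])
      · rintro rfl
        rw [hwdQ (r 1) 1 (by rw [hr]; rfl)]
        exact hinj (by rw [hQp, hε0, one_mul])
    · rw [Finset.sum_eq_card_nsmul (b := Nat.card {c : P ⧸ Z // Qp (r c) = 1}) fun u hu => ?_]
      · simp only [smul_eq_mul, Finset.card_erase_of_mem (Finset.mem_univ (0 : F)), Finset.card_univ,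
          Nat.card_eq_fintype_card]
      · rw [← hfib u (Finset.ne_of_mem_erase hu), Nat.card_eq_fintype_card, Fintype.card_subtype]
  obtain ⟨n, hn1, hn⟩ := exists_card_eq_two_pow (F := F)
  rw [← Nat.card_eq_fintype_card] at hn
  haveI : Fact (Nat.Prime 2) := ⟨Nat.prime_two⟩
  obtain ⟨N, hN⟩ := IsPGroup.iff_card.mp (h2.to_quotient Z)
  have hN0 : N ≠ 0 := by
    intro h0
    rw [h0, pow_zero] at hN
    haveI := (Nat.card_eq_one_iff_unique.mp hN).1
    exact hab0 (hZc a0 ((QuotientGroup.eq_one_iff a0).mp (Subsingleton.elim _ _)) b0)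
  have hP' := Subgroup.card_eq_card_quotient_mul_card_subgroup Z
  rw [hP', hN, ← hcardF, hn]
  rw [hN, hn] at hsum
  rw [← hcardF, hN, hn, ← pow_mul] at hbound
  have hNn : N ≤ n * 2 := (Nat.pow_le_pow_iff_right (by norm_num)).mp hbound
  have hdvd : 2 ^ n - 1 ∣ 2 ^ N - 1 := Dvd.intro _ (by rw [hsum, Nat.add_sub_cancel_left])
  have hsmall : ∀ j, j < n → 2 ^ n - 1 ∣ 2 ^ j - 1 → j = 0 := by
    intro j hj hdj
    by_contra hj0
    have h1 : 2 ^ j < 2 ^ n := Nat.pow_lt_pow_right (by norm_num) hj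
    have h2' : 1 < 2 ^ j := Nat.one_lt_two_pow hj0
    have := Nat.le_of_dvd (by omega) hdj
    omega
  rcases Nat.lt_or_ge N n with hlt | hge
  · exact absurd (hsmall N hlt hdvd) hN0
  obtain ⟨j, rfl⟩ := Nat.exists_eq_add_of_le hge
  have hdj : 2 ^ n - 1 ∣ 2 ^ j - 1 := by
    refine (Nat.dvd_add_right (dvd_mul_left (2 ^ n - 1) (2 ^ j))).mp ?_
    convert hdvd using 1
    have h1 : 1 ≤ 2 ^ j := Nat.one_le_two_pow
    have h3 : 2 ^ j ≤ 2 ^ j * 2 ^ n := Nat.le_mul_of_pos_right _ (Nat.two_pow_pos n)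
    rw [pow_add, mul_comm (2 ^ n), Nat.mul_sub_one]
    omega
  rcases Nat.lt_or_ge j n with hlt | hge'
  · left
    rw [hsmall j hlt hdj, add_zero, pow_two]
  · right
    rw [show j = n by omega, pow_add]
    ring

end Cfsg.Agent.Lib.SuzukiTwo
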