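import Cfsg.Agent.Lib.SuzukiTwo.Basic

/-!
The generator of a Suzuki 2-group is fixed-point-free; components of invariant sets of additive maps;
an anisotropic quadratic map from an `N`-dimensional to an `n`-dimensional space over `F₂` has
`N ≤ 2 n`.
-/

set_option autoImplicit false
set_option linter.unusedSectionVars false

namespace Cfsg.Agent.Lib.SuzukiTwo

section group

variable {P : Type*} [Group P] [Finite P] {k : MulAut P}

theorem fixedPointFree (hk : IsRegGen k) (h2 : IsPGroup 2 P)
    (htwo : ∃ x y : P, x ≠ y ∧ x ≠ 1 ∧ x * x = 1 ∧ y ≠ 1 ∧ y * y = 1) {x : P} (hx : k x = x) :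
    x = 1 := by
  by_contra hx1
  obtain ⟨n, hn⟩ := IsPGroup.iff_orderOf.mp h2 x
  have hn0 : n ≠ 0 := fun h => hx1 (orderOf_eq_one_iff.mp (by rw [hn, h]; rfl))
  set z := x ^ (orderOf x / 2) with hz
  have hzo : orderOf z = 2 := orderOf_pow_orderOf_div (orderOf_pos x).ne' (hn ▸ dvd_pow_self 2 hn0)
  have hz1 : z ≠ 1 := fun h => by rw [h, orderOf_one] at hzo; omega
  have hz2 : z * z = 1 := by rw [← pow_two, ← hzo, pow_orderOf_eq_one]
  have hkz : k z = z := by rw [hz, map_pow, hx]
  have hk1 : k = 1 := by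
    have := hk.semireg 1 z hz1 hz2 (by rw [pow_one]; exact hkz)
    rwa [pow_one] at this
  obtain ⟨a, b, hab, ha1, ha, hb1, hb⟩ := htwo
  obtain ⟨i, hi⟩ := hk.trans a b ha1 ha hb1 hb
  rw [hk1, one_pow] at hi
  exact hab hi

/-- A fixed coset of an invariant subgroup contains a fixed point. -/
theorem mem_of_fixed_coset (hfpf : ∀ x : P, k x = x → x = 1) {N : Subgroup P} (hN : Inv k N)
    {p : P} (h : p⁻¹ * k p ∈ N) : p ∈ N := by
  let f : N → N := fun m => ⟨(m : P) * (k m)⁻¹, mul_mem m.2 (inv_mem (hN _ m.2))⟩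
  have hf : Function.Injective f := by
    intro m m' he
    have he' : (m : P) * (k m)⁻¹ = m' * (k m')⁻¹ := congrArg Subtype.val he
    refine Subtype.ext (inv_mul_eq_one.mp (hfpf _ ?_)).symm
    rw [map_mul, map_inv]
    calc (k (m' : P))⁻¹ * k m = (m' : P)⁻¹ * ((m' : P) * (k m')⁻¹) * k m := by group
      _ = (m' : P)⁻¹ * ((m : P) * (k m)⁻¹) * k m := by rw [he']
      _ = (m' : P)⁻¹ * m := by group
  obtain ⟨m, hm⟩ := (Finite.injective_iff_surjective.mp hf) ⟨_, h⟩
  have hm' : (m : P) * (k m)⁻¹ = p⁻¹ * k p := congrArg Subtype.val hm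
  have hfix : k (p * m) = p * m := by
    calc k (p * (m : P)) = p * (p⁻¹ * k p) * k m := by rw [map_mul]; group
      _ = p * ((m : P) * (k m)⁻¹) * k m := by rw [hm']
      _ = p * m := by group
  rw [eq_inv_of_mul_eq_one_left (hfpf _ hfix)]
  exact inv_mem m.2

end group

section field

variable {F : Type*} [Field F] [Fintype F] [CharP F 2] {l : F}

/-- Every element of an invariant additive set of maps is a sum of semilinear elements of the set. -/
theorem IsGen.mem_closure_pure (hl : IsGen l) (S : AddSubgroup (F →+ F))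
    (hinv : ∀ D ∈ S, ∀ E : F →+ F, (∀ x, E x = l * D (l⁻¹ * x)) → E ∈ S) {D : F →+ F} (hD : D ∈ S) :
    D ∈ AddSubgroup.closure
      {E | E ∈ S ∧ ∃ (a : F) (τ : F ≃+* F), a ≠ 0 ∧ ∀ x, E x = a * τ x} := by
  classical
  haveI : Finite (F ≃+* F) := Finite.of_injective _ DFunLike.coe_injective
  haveI : Fintype (F ≃+* F) := Fintype.ofFinite _
  letI : Algebra (ZMod 2) F := ZMod.algebra F 2
  set μ : (F ≃+* F) → F := fun σ => l * σ l⁻¹ with hμ
  have hadd : ∀ g : Polynomial (ZMod 2), ∀ D ∈ S, ∀ c : (F ≃+* F) → F,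
      (∀ x, D x = ∑ σ, c σ * σ x) →
        ∃ E ∈ S, ∀ x, E x = ∑ σ, Polynomial.aeval (μ σ) g * c σ * σ x := by
    intro g
    induction g using Polynomial.induction_on' with
    | add f g hf hg =>
      intro D hD c hc
      obtain ⟨E, hE, hEx⟩ := hf D hD c hc
      obtain ⟨E', hE', hEx'⟩ := hg D hD c hc
      exact ⟨E + E', add_mem hE hE', fun x => by
        rw [AddMonoidHom.add_apply, hEx, hEx', ← Finset.sum_add_distrib]
        exact Finset.sum_congr rfl fun σ _ => by rw [map_add]; ring⟩
    | monomial j r =>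
      intro D hD c hc
      rcases (by revert r; decide : r = 0 ∨ r = 1) with rfl | rfl
      · exact ⟨0, zero_mem S, fun x => by simp⟩
      · induction j with
        | zero => exact ⟨D, hD, fun x => by simp [hc]⟩
        | succ j ih =>
          obtain ⟨E, hE, hEx⟩ := ih
          refine ⟨(AddMonoidHom.mulLeft l).comp (E.comp (AddMonoidHom.mulLeft l⁻¹)),
            hinv E hE _ (fun x => rfl), fun x => ?_⟩
          show l * E (l⁻¹ * x) = _
          rw [hEx, Finset.mul_sum]
          refine Finset.sum_congr rfl fun σ _ => ?_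
          simp only [Polynomial.aeval_monomial, map_one, one_mul, map_mul, hμ, pow_succ]
          ring
  obtain ⟨c, hc⟩ := FieldAut.exists_coeff 2 D
  have hl0 := hl.ne_zero
  have hcomp : ∀ τ, ∃ E ∈ S, ∀ x, E x = c τ * τ x := by
    intro τ
    set h : Polynomial (ZMod 2) := ∏ σ ∈ Finset.univ.erase τ, minpoly (ZMod 2) (μ σ) with hh
    have hτ : Polynomial.aeval (μ τ) h ≠ 0 := by
      rw [hh, map_prod, Finset.prod_ne_zero_iff]
      intro σ hσ hz
      obtain ⟨φ, hφ⟩ :=
        minpoly.exists_algEquiv_of_root' (Algebra.IsAlgebraic.isAlgebraic (μ σ)) hz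
      refine (Finset.ne_of_mem_erase hσ) ?_
      simp only [hμ, map_mul, map_inv₀] at hφ
      have h1 : (φ : F ≃+* F) l * τ l = ((σ.trans (φ : F ≃+* F))) l * (RingEquiv.refl F) l := by
        have h2 : φ (σ l) ≠ 0 := by simp [hl0]
        have h3 : τ l ≠ 0 := by simp [hl0]
        show φ l * τ l = φ (σ l) * l
        field_simp at hφ
        linear_combination hφ
      rcases hl.pair_unique h1 with ⟨h4, h5⟩ | ⟨h4, h5⟩
      · have : σ = RingEquiv.refl F := RingEquiv.ext fun x => (φ : F ≃+* F).injective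
          (RingEquiv.congr_fun h4 x).symm
        rw [this, h5]
      · rw [h5]
        exact RingEquiv.ext fun x => (RingEquiv.congr_fun h4 (σ x)).symm
    obtain ⟨E, hE, hEx⟩ := hadd (h ^ (Fintype.card F - 1)) D hD c hc
    refine ⟨E, hE, fun x => ?_⟩
    rw [hEx, Fintype.sum_eq_single τ]
    · rw [map_pow, FiniteField.pow_card_sub_one_eq_one _ hτ, one_mul]
    · intro σ hσ
      rw [map_pow, show Polynomial.aeval (μ σ) h = 0 by
        rw [hh, map_prod]
        exact Finset.prod_eq_zero (Finset.mem_erase.mpr ⟨hσ, Finset.mem_univ σ⟩) (minpoly.aeval _ _),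
        zero_pow (by have := Fintype.one_lt_card (α := F); omega), zero_mul, zero_mul]
  choose E hES hEx using hcomp
  have hsum : D = ∑ τ, E τ := AddMonoidHom.ext fun x => by
    rw [hc, AddMonoidHom.finsetSum_apply]
    exact Finset.sum_congr rfl fun τ _ => (hEx τ x).symm
  rw [hsum]
  refine AddSubgroup.sum_mem _ fun τ _ => ?_
  by_cases h0 : c τ = 0
  · rw [show E τ = 0 from AddMonoidHom.ext fun x => by rw [hEx, h0, zero_mul]; rfl]
    exact zero_mem _
  · exact AddSubgroup.subset_closure ⟨hES τ, c τ, τ, h0, hEx τ⟩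

end field

section bound

open MvPolynomial in
/-- An anisotropic quadratic map over `F₂` at most halves the dimension. -/
theorem card_le_sq_of_anisotropic {X W : Type*} [AddCommGroup X] [Finite X] [AddCommGroup W]
    [Finite W] (hX : ∀ x : X, x + x = 0) (hW : ∀ w : W, w + w = 0) (Q : X → W) (hQ0 : Q 0 = 0)
    (B : X →+ X →+ W) (hQ : ∀ x y, Q (x + y) = Q x + Q y + B x y)
    (haniso : ∀ x, Q x = 0 → x = 0) : Nat.card X ≤ Nat.card W ^ 2 := by
  classical
  haveI : Fintype X := Fintype.ofFinite X
  haveI : Fintype W := Fintype.ofFinite W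
  letI : Module (ZMod 2) X := AddCommGroup.zmodModule (fun x => by rw [two_nsmul]; exact hX x)
  letI : Module (ZMod 2) W := AddCommGroup.zmodModule (fun w => by rw [two_nsmul]; exact hW w)
  let bX := Module.finBasis (ZMod 2) X
  let bW := Module.finBasis (ZMod 2) W
  set N := Module.finrank (ZMod 2) X
  set n := Module.finrank (ZMod 2) W
  let p : Fin n → MvPolynomial (Fin N) (ZMod 2) := fun j =>
    ∑ i, C (bW.repr (Q (bX i)) j) * MvPolynomial.X i +
      ∑ i, ∑ i' ∈ Finset.univ.filter (fun i' => i < i'), C (bW.repr (B (bX i) (bX i')) j) * (MvPolynomial.X i * MvPolynomial.X i')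
  have hdeg : ∀ j, (p j).totalDegree ≤ 2 := by
    intro j
    refine (totalDegree_add _ _).trans (max_le ?_ ?_)
    · refine (totalDegree_finset_sum _ _).trans (Finset.sup_le fun i _ => ?_)
      refine (totalDegree_mul _ _).trans ?_
      rw [totalDegree_C, totalDegree_X]
      norm_num
    · refine (totalDegree_finset_sum _ _).trans (Finset.sup_le fun i _ => ?_)
      refine (totalDegree_finset_sum _ _).trans (Finset.sup_le fun i' _ => ?_)
      refine (totalDegree_mul _ _).trans ?_
      rw [totalDegree_C, zero_add]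
      refine (totalDegree_mul _ _).trans ?_
      rw [totalDegree_X, totalDegree_X]
  have hQs : ∀ (a : ZMod 2) (x : X), Q (a • x) = a • Q x := by
    intro a x
    rcases (by revert a; decide : a = 0 ∨ a = 1) with rfl | rfl
    · rw [zero_smul, zero_smul, hQ0]
    · rw [one_smul, one_smul]
  have hBs : ∀ (a a' : ZMod 2) (x y : X), B (a • x) (a' • y) = (a * a') • B x y := by
    intro a a' x y
    rcases (by revert a; decide : a = 0 ∨ a = 1) with rfl | rfl
    · rw [zero_smul, map_zero, AddMonoidHom.zero_apply, zero_mul, zero_smul]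
    · rcases (by revert a'; decide : a' = 0 ∨ a' = 1) with rfl | rfl
      · rw [zero_smul, map_zero, mul_zero, zero_smul]
      · rw [one_smul, one_smul, one_mul, one_smul]
  have hexp : ∀ (x : Fin N → ZMod 2) (s : Finset (Fin N)), Q (∑ i ∈ s, x i • bX i) =
      ∑ i ∈ s, x i • Q (bX i) + ∑ i ∈ s, ∑ i' ∈ s.filter (fun i' => i < i'),
        (x i * x i') • B (bX i) (bX i') := by
    intro x s
    induction s using Finset.induction_on_min with
    | empty => simp [hQ0]
    | insert a s ha ih =>
      have has : a ∉ s := fun h => lt_irrefl a (ha a h)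
      rw [Finset.sum_insert has, hQ, ih, hQs, Finset.sum_insert has, map_sum,
        Finset.sum_insert has]
      have h1 : (insert a s).filter (fun i' => a < i') = s := by
        rw [Finset.filter_insert, if_neg (lt_irrefl a), Finset.filter_true_of_mem ha]
      have h2 : ∀ i ∈ s, (insert a s).filter (fun i' => i < i') = s.filter (fun i' => i < i') :=
        fun i hi => by rw [Finset.filter_insert, if_neg (not_lt.mpr (ha i hi).le)]
      rw [h1, Finset.sum_congr rfl (fun i hi => by rw [h2 i hi] :
        ∀ i ∈ s, ∑ i' ∈ (insert a s).filter (fun i' => i < i'), (x i * x i') • B (bX i) (bX i') =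
          ∑ i' ∈ s.filter (fun i' => i < i'), (x i * x i') • B (bX i) (bX i'))]
      simp only [hBs]
      abel
  have heval : ∀ (x : Fin N → ZMod 2) j, eval x (p j) = bW.repr (Q (∑ i, x i • bX i)) j := by
    intro x j
    rw [hexp]
    simp only [p, map_add, map_sum, map_mul, eval_C, eval_X, Finsupp.add_apply,
      Finsupp.finsetSum_apply, map_smul, Finsupp.smul_apply, smul_eq_mul]
    congr 1
    · exact Finset.sum_congr rfl fun i _ => mul_comm _ _
    · exact Finset.sum_congr rfl fun i _ => Finset.sum_congr rfl fun i' _ => mul_comm _ _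
  have hle : N ≤ 2 * n := by
    by_contra hlt
    have hdvd := char_dvd_card_solutions_of_sum_lt 2 (K := ZMod 2) (σ := Fin N) (s := Finset.univ)
      (f := p) (lt_of_le_of_lt (Finset.sum_le_card_nsmul _ _ 2 fun j _ => hdeg j)
        (by simp only [Finset.card_univ, Fintype.card_fin, smul_eq_mul]; omega))
    have hone : Nat.card {x : Fin N → ZMod 2 // ∀ j ∈ Finset.univ, eval x (p j) = 0} = 1 := by
      rw [Nat.card_eq_one_iff_exists]
      refine ⟨⟨0, fun j _ => by rw [heval]; simp [hQ0]⟩, fun ⟨x, hx⟩ => Subtype.ext ?_⟩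
      have hzero : Q (∑ i, x i • bX i) = 0 := bW.repr.injective (Finsupp.ext fun j => by
        rw [← heval, hx j (Finset.mem_univ j), map_zero, Finsupp.zero_apply])
      exact funext fun i => Fintype.linearIndependent_iff.mp bX.linearIndependent x
        (haniso _ hzero) i
    rw [Fintype.card_eq_nat_card, hone] at hdvd
    omega
  rw [Module.natCard_eq_pow_finrank (K := ZMod 2) (V := X),
    Module.natCard_eq_pow_finrank (K := ZMod 2) (V := W), Nat.card_zmod, ← pow_mul]
  exact Nat.pow_le_pow_right (by norm_num) (hle.trans_eq (mul_comm 2 n))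

end bound

end Cfsg.Agent.Lib.SuzukiTwo
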