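import Cfsg.Agent.Lib.SuzukiTwo.Weight

/-!
A cyclic group of automorphisms transitive on the involutions of a finite group with commuting
involutions turns them into a finite field of characteristic two.
-/

set_option autoImplicit false
set_option linter.unusedSectionVars false

namespace Cfsg.Agent.Lib.SuzukiTwo

open Polynomial in
/-- A vector space over `F₂` with a linear map whose powers are transitive on nonzero vectors is a
field on which the map is multiplication by a primitive element. -/
theorem exists_field_of_orbit {V : Type*} [AddCommGroup V] [Module (ZMod 2) V] [Finite V]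
    (T : V →ₗ[ZMod 2] V) (hT : Function.Injective T) (v0 : V) (hv0 : v0 ≠ 0)
    (horb : ∀ v : V, v ≠ 0 → ∃ i : ℕ, (T ^ i) v0 = v) :
    ∃ (F : Type) (_ : Field F) (_ : Fintype F) (_ : CharP F 2) (l : F) (e : F ≃+ V),
      IsGen l ∧ e 1 = v0 ∧ ∀ x, e (l * x) = T (e x) := by
  set φ : Polynomial (ZMod 2) →ₐ[ZMod 2] Module.End (ZMod 2) V := aeval T with hφ
  set I : Ideal (Polynomial (ZMod 2)) := RingHom.ker φ with hI
  have hev : ∀ p : Polynomial (ZMod 2), φ p v0 = 0 → φ p = 0 := by
    intro p hp
    refine LinearMap.ext fun v => ?_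
    by_cases hv : v = 0
    · simp [hv]
    obtain ⟨i, rfl⟩ := horb v hv
    have hc : φ p * T ^ i = T ^ i * φ p := by
      rw [show T ^ i = φ (X ^ i) by simp [hφ], ← map_mul, ← map_mul, mul_comm]
    rw [← Module.End.mul_apply, hc, Module.End.mul_apply, hp, map_zero]
    rfl
  have hsurj : ∀ v : V, ∃ p : Polynomial (ZMod 2), φ p v0 = v := by
    intro v
    by_cases hv : v = 0
    · exact ⟨0, by simp [hv]⟩
    obtain ⟨i, rfl⟩ := horb v hv
    exact ⟨X ^ i, by simp [hφ]⟩
  have hfield : IsField (Polynomial (ZMod 2) ⧸ I) := by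
    refine ⟨⟨0, 1, fun h => hv0 ?_⟩, mul_comm, fun {a} ha => ?_⟩
    · have h1 : (1 : Polynomial (ZMod 2)) ∈ I := Ideal.Quotient.eq_zero_iff_mem.mp (by rw [map_one]; exact h.symm)
      rw [hI, RingHom.mem_ker, map_one] at h1
      exact LinearMap.congr_fun h1 v0
    · obtain ⟨p, rfl⟩ := Ideal.Quotient.mk_surjective a
      have hp : φ p ≠ 0 := fun h => ha (Ideal.Quotient.eq_zero_iff_mem.mpr (RingHom.mem_ker.mpr h))
      obtain ⟨i, hi⟩ := horb (φ p v0) (fun h => hp (hev p h))
      haveI : Finite (Module.End (ZMod 2) V) := Finite.of_injective _ DFunLike.coe_injective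
      have hbij : IsUnit (T ^ i) :=
        ((Module.End.isUnit_iff T).mpr (Finite.injective_iff_bijective.mp hT)).pow i
      have he : φ p = φ (X ^ i) := sub_eq_zero.mp (by
        rw [← map_sub]
        refine hev _ ?_
        simp [hφ] at hi ⊢
        rw [hi, sub_self])
      obtain ⟨u, hu⟩ := hbij
      have : IsOfFinOrder u := isOfFinOrder_of_finite u
      refine ⟨Ideal.Quotient.mk I (X ^ (i * (orderOf u - 1))), ?_⟩
      rw [← map_mul, ← map_one (Ideal.Quotient.mk I), Ideal.Quotient.eq, hI, RingHom.mem_ker,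
        map_sub, map_mul, map_one, he, sub_eq_zero]
      simp only [hφ, map_pow, aeval_X, pow_mul]
      rw [← hu, ← pow_succ', Nat.sub_add_cancel this.orderOf_pos, ← Units.val_pow_eq_pow_val,
        pow_orderOf_eq_one, Units.val_one]
  haveI : I.IsMaximal := Ideal.Quotient.maximal_of_isField I hfield
  letI : Field (Polynomial (ZMod 2) ⧸ I) := Ideal.Quotient.field I
  let e0 : (Polynomial (ZMod 2) ⧸ I) → V := fun a => φ (Quotient.out a) v0
  have he0 : ∀ p, e0 (Ideal.Quotient.mk I p) = φ p v0 := by
    intro p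
    have h1 : Ideal.Quotient.mk I (Quotient.out (Ideal.Quotient.mk I p)) = Ideal.Quotient.mk I p :=
      Quotient.out_eq _
    rw [Ideal.Quotient.eq, hI, RingHom.mem_ker, map_sub, sub_eq_zero] at h1
    exact LinearMap.congr_fun h1 v0
  let eh : (Polynomial (ZMod 2) ⧸ I) →+ V := AddMonoidHom.mk' e0 fun a b => by
    obtain ⟨p, rfl⟩ := Ideal.Quotient.mk_surjective a
    obtain ⟨r, rfl⟩ := Ideal.Quotient.mk_surjective b
    rw [← map_add, he0, he0, he0, map_add, LinearMap.add_apply]
  have hbij : Function.Bijective eh := by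
    refine ⟨(injective_iff_map_eq_zero eh).mpr fun a ha => ?_, fun v => ?_⟩
    · obtain ⟨p, rfl⟩ := Ideal.Quotient.mk_surjective a
      exact Ideal.Quotient.eq_zero_iff_mem.mpr
        (RingHom.mem_ker.mpr (hev p (by rw [← he0 p]; exact ha)))
    · obtain ⟨p, hp⟩ := hsurj v
      exact ⟨Ideal.Quotient.mk I p, (he0 p).trans hp⟩
  let e : (Polynomial (ZMod 2) ⧸ I) ≃+ V := AddEquiv.ofBijective eh hbij
  haveI : Finite (Polynomial (ZMod 2) ⧸ I) := Finite.of_equiv V e.symm.toEquiv
  letI : Fintype (Polynomial (ZMod 2) ⧸ I) := Fintype.ofFinite _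
  haveI : CharP (Polynomial (ZMod 2) ⧸ I) 2 :=
    charP_of_injective_algebraMap (algebraMap (ZMod 2) (Polynomial (ZMod 2) ⧸ I)).injective 2
  set l : Polynomial (ZMod 2) ⧸ I := Ideal.Quotient.mk I X with hl
  have hone : e 1 = v0 := by
    show e0 1 = v0
    rw [← map_one (Ideal.Quotient.mk I), he0, map_one]
    rfl
  have hmul : ∀ x, e (l * x) = T (e x) := by
    intro x
    obtain ⟨p, rfl⟩ := Ideal.Quotient.mk_surjective x
    show e0 (l * _) = T (e0 _)
    rw [hl, ← map_mul, he0, he0, map_mul, Module.End.mul_apply]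
    simp [hφ]
  have hpow : ∀ i : ℕ, e (l ^ i) = (T ^ i) v0 := by
    intro i
    induction i with
    | zero => simp [hone]
    | succ i ih => rw [pow_succ', hmul, ih, pow_succ', Module.End.mul_apply]
  have hl0 : l ≠ 0 := fun h => hv0 (hT (by rw [map_zero, ← hone, ← hmul, h, zero_mul, map_zero]))
  refine ⟨_, inferInstance, inferInstance, inferInstance, l, e, ?_, hone, hmul⟩
  classical
  rw [IsGen, show l = ((Units.mk0 l hl0 : (Polynomial (ZMod 2) ⧸ I)ˣ) : _) from rfl, orderOf_units,
    ← Fintype.card_units, ← Nat.card_eq_fintype_card]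
  refine orderOf_eq_card_of_forall_mem_zpowers fun x => ?_
  obtain ⟨i, hi⟩ := horb (e (x : Polynomial (ZMod 2) ⧸ I)) (fun h => x.ne_zero (e.map_eq_zero_iff.mp h))
  exact ⟨i, Units.ext (e.injective (by simp [hpow, hi]))⟩

/-- The group version: commuting involutions permuted transitively by an automorphism. -/
theorem exists_field_of_involutions {P : Type*} [Group P] [Finite P] (k : P ≃* P)
    (hcomm : ∀ x y : P, x * x = 1 → y * y = 1 → x * y = y * x)
    (z : P) (hz : z ≠ 1) (hz2 : z * z = 1)
    (horb : ∀ x : P, x ≠ 1 → x * x = 1 → ∃ i : ℕ, ((k : MulAut P) ^ i) z = x) :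
    ∃ (F : Type) (_ : Field F) (_ : Fintype F) (_ : CharP F 2) (l : F) (e : F → P),
      IsGen l ∧ Function.Injective e ∧ (∀ x y, e (x + y) = e x * e y) ∧ e 1 = z ∧
        (∀ v : P, v * v = 1 ↔ ∃ x, e x = v) ∧ ∀ x, e (l * x) = k (e x) := by
  let V : Subgroup P :=
    { carrier := {x | x * x = 1}
      mul_mem' := fun {x y} hx hy => by
        show x * y * (x * y) = 1
        calc x * y * (x * y) = x * (y * x) * y := by group
          _ = x * x * (y * y) := by rw [← hcomm x y hx hy]; group
          _ = 1 := by rw [hx, hy, one_mul]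
      one_mem' := one_mul 1
      inv_mem' := fun {x} hx => by
        show x⁻¹ * x⁻¹ = 1
        rw [← mul_inv_rev, hx, inv_one] }
  letI : CommGroup V := { (inferInstance : Group V) with
    mul_comm := fun x y => Subtype.ext (hcomm x y x.2 y.2) }
  letI : Module (ZMod 2) (Additive V) := AddCommGroup.zmodModule (fun x => by
    rw [two_nsmul]
    exact congrArg Additive.ofMul (Subtype.ext (Additive.toMul x).2 : Additive.toMul x * Additive.toMul x = 1))
  let f : V →* V :=
    { toFun := fun x => ⟨k x, by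
        show k x * k x = 1
        rw [← map_mul, x.2, map_one]⟩
      map_one' := Subtype.ext (map_one k)
      map_mul' := fun x y => Subtype.ext (map_mul k _ _) }
  let T : Additive V →ₗ[ZMod 2] Additive V := (MonoidHom.toAdditive f).toZModLinearMap 2
  have hTi : ∀ (i : ℕ) (x : V), (((T ^ i) (Additive.ofMul x)).toMul : P) = ((k : MulAut P) ^ i) x := by
    intro i x
    induction i with
    | zero => rfl
    | succ i ih =>
      rw [pow_succ', pow_succ', Module.End.mul_apply, MulAut.mul_apply, ← ih]
      rfl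
  obtain ⟨F, iF, iFin, iC, l, e, hl, hone, hmul⟩ := exists_field_of_orbit T
    (fun x y h => by
      have h1 : k ((Additive.toMul x : V) : P) = k ((Additive.toMul y : V) : P) :=
        congrArg (fun u : Additive V => ((Additive.toMul u : V) : P)) h
      exact congrArg Additive.ofMul (Subtype.ext (k.injective h1) : Additive.toMul x = Additive.toMul y))
    (Additive.ofMul ⟨z, hz2⟩) (fun h => hz (congrArg (fun u : Additive V => ((Additive.toMul u : V) : P)) h))
    (fun v hv => by
      obtain ⟨i, hi⟩ := horb ((Additive.toMul v : V) : P)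
        (fun h => hv (congrArg Additive.ofMul (Subtype.ext h : Additive.toMul v = 1)))
        (Additive.toMul v).2
      exact ⟨i, Additive.toMul.injective (Subtype.ext ((hTi i _).trans hi))⟩)
  refine ⟨F, iF, iFin, iC, l, fun x => ((Additive.toMul (e x) : V) : P), hl,
    fun x y h => e.injective (Additive.toMul.injective (Subtype.ext h)), fun x y => ?_, ?_, ?_, ?_⟩
  · show ((Additive.toMul (e (x + y)) : V) : P) = _
    rw [map_add]
    rfl
  · show ((Additive.toMul (e 1) : V) : P) = _
    rw [hone]
    rfl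
  · refine fun v => ⟨fun hv => ⟨e.symm (Additive.ofMul ⟨v, hv⟩), ?_⟩, ?_⟩
    · show ((Additive.toMul (e (e.symm _)) : V) : P) = v
      rw [AddEquiv.apply_symm_apply]
      rfl
    · rintro ⟨x, rfl⟩
      exact (Additive.toMul (e x)).2
  · intro x
    show ((Additive.toMul (e (l * x)) : V) : P) = _
    rw [hmul]
    rfl

end Cfsg.Agent.Lib.SuzukiTwo
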