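import Cfsg.Agent.Lib.SuzukiTwo.Model
import Cfsg.Agent.Lib.Core.Nilpotent
import Cfsg.Prelude.Def_LieRecognition

/-!
Suzuki 2-groups: a generator of the cyclic group of automorphisms, its invariant subgroups.
-/

set_option autoImplicit false
set_option linter.unusedSectionVars false

open scoped commutatorElement

namespace Cfsg.Agent.Lib.SuzukiTwo

variable {P : Type*} [Group P]

/-- `k` generates a group of automorphisms regular on the involutions. -/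
structure IsRegGen (k : MulAut P) : Prop where
  trans : ∀ x y : P, x ≠ 1 → x * x = 1 → y ≠ 1 → y * y = 1 → ∃ i : ℕ, (k ^ i) x = y
  semireg : ∀ (i : ℕ) (x : P), x ≠ 1 → x * x = 1 → (k ^ i) x = x → k ^ i = 1

/-- `A` is mapped into itself by `k`. -/
def Inv (k : MulAut P) (A : Subgroup P) : Prop := ∀ x ∈ A, k x ∈ A

theorem exists_regGen (hP : Cfsg.IsSuzukiTwoGroup P) : ∃ k : MulAut P, IsRegGen k := by
  obtain ⟨hfin, -, -, -, K, hK, hreg⟩ := hP
  haveI : Finite (MulAut P) := Finite.of_injective _ DFunLike.coe_injective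
  obtain ⟨⟨k, hk⟩, hgen⟩ := hK.exists_generator
  refine ⟨k, fun x y hx1 hx hy1 hy => ?_, fun i x hx1 hx h => ?_⟩
  · obtain ⟨⟨m, hm⟩, he, -⟩ := hreg x y hx1 hx hy1 hy
    obtain ⟨i, hi⟩ := (isOfFinOrder_of_finite _).mem_powers_iff_mem_zpowers.mpr (hgen ⟨m, hm⟩)
    have hi' : k ^ i = m := congrArg Subtype.val hi
    exact ⟨i, hi' ▸ he⟩
  · have h2 := (hreg x x hx1 hx hx1 hx).unique (y₁ := ⟨k ^ i, K.pow_mem hk i⟩) (y₂ := 1) h rfl
    exact congrArg Subtype.val h2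

variable [Finite P] {k : MulAut P}

theorem Inv.pow {A : Subgroup P} (hA : Inv k A) (i : ℕ) : ∀ x ∈ A, (k ^ i) x ∈ A := by
  induction i with
  | zero => exact fun x hx => hx
  | succ i ih => exact fun x hx => by rw [pow_succ', MulAut.mul_apply]; exact hA _ (ih x hx)

theorem inv_center : Inv k (Subgroup.center P) := fun x hx =>
  Subgroup.mem_center_iff.mpr fun y => by
    have := congrArg k (Subgroup.mem_center_iff.mp hx (k⁻¹ y))
    rwa [map_mul, map_mul, ← MulAut.mul_apply, mul_inv_cancel, MulAut.one_apply] at this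

theorem exists_involution_central [Nontrivial P] (h2 : IsPGroup 2 P) :
    ∃ z : P, z ∈ Subgroup.center P ∧ z ≠ 1 ∧ z * z = 1 := by
  haveI : Fact (Nat.Prime 2) := ⟨Nat.prime_two⟩
  haveI := h2.center_nontrivial
  obtain ⟨n, hn0, hn⟩ := (h2.to_subgroup (Subgroup.center P)).nontrivial_iff_card.mp inferInstance
  obtain ⟨⟨z, hz⟩, hz2⟩ := exists_prime_orderOf_dvd_card' (G := Subgroup.center P) 2
    (hn ▸ dvd_pow_self 2 hn0.ne')
  rw [Subgroup.orderOf_mk] at hz2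
  exact ⟨z, hz, fun h => by rw [h, orderOf_one] at hz2; omega,
    by rw [← pow_two, ← hz2, pow_orderOf_eq_one]⟩

theorem involution_central (hk : IsRegGen k) (h2 : IsPGroup 2 P) {x : P} (hx : x * x = 1) :
    x ∈ Subgroup.center P := by
  by_cases hx1 : x = 1
  · rw [hx1]; exact one_mem _
  haveI : Nontrivial P := ⟨x, 1, hx1⟩
  obtain ⟨z, hz, hz1, hzz⟩ := exists_involution_central h2
  obtain ⟨i, rfl⟩ := hk.trans z x hz1 hzz hx1 hx
  exact inv_center.pow i z hz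

/-- The exponent of `A` is `2 ^ (f + 1)`. -/
def HasExp (A : Subgroup P) (f : ℕ) : Prop :=
  (∀ a ∈ A, a ^ 2 ^ (f + 1) = 1) ∧ ∃ a ∈ A, a ^ 2 ^ f ≠ 1

theorem exists_hasExp (h2 : IsPGroup 2 P) {A : Subgroup P} (hA : A ≠ ⊥) : ∃ f, HasExp A f := by
  classical
  obtain ⟨n, hn⟩ := IsPGroup.iff_card.mp h2
  have hex : ∃ f, ∀ a ∈ A, a ^ 2 ^ (f + 1) = 1 := ⟨n, fun a _ => by
    rw [pow_succ, pow_mul, ← hn, pow_card_eq_one', one_pow]⟩
  obtain ⟨⟨a, ha⟩, ha1⟩ := Subgroup.ne_bot_iff_exists_ne_one.mp hA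
  refine ⟨Nat.find hex, Nat.find_spec hex, ?_⟩
  by_contra hall
  push Not at hall
  rcases Nat.eq_zero_or_pos (Nat.find hex) with h0 | h0
  · exact ha1 (Subtype.ext (by simpa [h0] using hall a ha))
  · exact Nat.find_min hex (Nat.sub_lt h0 one_pos) (fun a ha => by
      rw [show Nat.find hex - 1 + 1 = Nat.find hex by omega]; exact hall a ha)

theorem exists_root (hk : IsRegGen k) {A : Subgroup P} (hA : Inv k A) {f : ℕ} (hf : HasExp A f)
    {v : P} (hv : v * v = 1) : ∃ b ∈ A, b ^ 2 ^ f = v := by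
  by_cases hv1 : v = 1
  · exact ⟨1, one_mem A, by rw [one_pow, hv1]⟩
  obtain ⟨a, ha, hne⟩ := hf.2
  have haa : a ^ 2 ^ f * a ^ 2 ^ f = 1 := by rw [← pow_two, ← pow_mul, ← pow_succ, hf.1 a ha]
  obtain ⟨i, hi⟩ := hk.trans _ v hne haa hv1 hv
  exact ⟨(k ^ i) a, hA.pow i a ha, by rw [← map_pow, hi]⟩

/-- An element of the right order in a homocyclic subgroup is a square. -/
theorem exists_sqrt (hk : IsRegGen k) {A : Subgroup P} (hA : Inv k A)
    (hc : ∀ x ∈ A, ∀ y ∈ A, x * y = y * x) {f : ℕ} (hf : HasExp A f) :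
    ∀ (i : ℕ) (a : P), a ∈ A → i ≤ f → a ^ 2 ^ i = 1 → ∃ b ∈ A, b * b = a := by
  intro i
  induction i with
  | zero =>
    intro a ha _ h
    exact ⟨1, one_mem A, by rw [pow_zero, pow_one] at h; rw [h, mul_one]⟩
  | succ i ih =>
    intro a ha hi h
    have hv : a ^ 2 ^ i * a ^ 2 ^ i = 1 := by rw [← pow_two, ← pow_mul, ← pow_succ, h]
    obtain ⟨b, hb, hbv⟩ := exists_root hk hA hf hv
    set d := b ^ 2 ^ (f - i - 1) with hd
    have hdA : d ∈ A := pow_mem hb _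
    have hcd : (d * d) ^ 2 ^ i = a ^ 2 ^ i := by
      rw [← pow_two, ← pow_mul, hd, ← pow_mul, ← pow_succ', ← pow_add, ← hbv]
      congr 2; omega
    have hcomm : Commute a (d * d)⁻¹ := hc a ha _ (inv_mem (mul_mem hdA hdA))
    obtain ⟨c, hcA, hcc⟩ := ih (a * (d * d)⁻¹) (mul_mem ha (inv_mem (mul_mem hdA hdA))) (by omega)
      (by rw [hcomm.mul_pow, inv_pow, hcd, mul_inv_cancel])
    refine ⟨c * d, mul_mem hcA hdA, ?_⟩
    calc c * d * (c * d) = c * (d * c) * d := by group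
      _ = c * c * (d * d) := by rw [hc d hdA c hcA]; group
      _ = a := by rw [hcc, inv_mul_cancel_right]

theorem sq_mul {x y : P} : x * y * (x * y) = x * x * ⁅x⁻¹, y⁆ * (y * y) := by
  rw [commutatorElement_def]; group

/-- An extension of an abelian invariant subgroup of exponent at least `4` with elementary quotient
and commutators inside is abelian. -/
theorem commute_of_extend (hk : IsRegGen k) (h2 : IsPGroup 2 P) {A W : Subgroup P} (hA : Inv k A)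
    (hc : ∀ x ∈ A, ∀ y ∈ A, x * y = y * x) (hV : ∀ x : P, x * x = 1 → x ∈ A) {f : ℕ}
    (hf : HasExp A f) (hf1 : 1 ≤ f) (hW : Inv k W) (hAW : A ≤ W)
    (hcen : ∀ x ∈ W, ∀ a ∈ A, x * a = a * x) (hsq : ∀ x ∈ W, x * x ∈ A)
    (hcm : ∀ x ∈ W, ∀ y ∈ W, ⁅x, y⁆ ∈ A) : ∀ x ∈ W, ∀ y ∈ W, x * y = y * x := by
  classical
  have hinv2 : ∀ x ∈ W, ∀ y ∈ W, ⁅x, y⁆ * ⁅x, y⁆ = 1 := by
    intro x hx y hy
    set c := ⁅x, y⁆ with hcdef
    have h1 : x * y * x⁻¹ = c * y := by rw [hcdef, commutatorElement_def]; group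
    have h3 : x * (y * y) * x⁻¹ = c * c * (y * y) := by
      calc x * (y * y) * x⁻¹ = (x * y * x⁻¹) * (x * y * x⁻¹) := by group
        _ = c * (y * c) * y := by rw [h1]; group
        _ = c * c * (y * y) := by rw [hcen y hy c (hcm x hx y hy)]; group
    rw [hcen x hx _ (hsq y hy), mul_inv_cancel_right] at h3
    exact mul_eq_right.mp h3.symm
  have hΦ : ∀ x ∈ W, ∀ y ∈ W, (x * y) ^ 2 ^ (f + 1) = x ^ 2 ^ (f + 1) * y ^ 2 ^ (f + 1) := by
    intro x hx y hy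
    have e : ∀ z : P, z ^ 2 ^ (f + 1) = (z * z) ^ 2 ^ f := fun z => by
      rw [pow_succ', pow_mul, pow_two]
    have hcA := hcm x⁻¹ (inv_mem hx) y hy
    have c1 : Commute (x * x) ⁅x⁻¹, y⁆ := hc _ (hsq x hx) _ hcA
    have c2 : Commute (x * x * ⁅x⁻¹, y⁆) (y * y) := hc _ (mul_mem (hsq x hx) hcA) _ (hsq y hy)
    have hcf : ⁅x⁻¹, y⁆ ^ 2 ^ f = 1 := by
      obtain ⟨g, rfl⟩ : ∃ g, f = g + 1 := ⟨f - 1, by omega⟩
      rw [pow_succ', pow_mul, pow_two, hinv2 x⁻¹ (inv_mem hx) y hy, one_pow]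
    rw [e, e, e, sq_mul, c2.mul_pow, c1.mul_pow, hcf, mul_one]
  have hker : ∀ x ∈ W, x ^ 2 ^ (f + 1) = 1 → x ∈ A := by
    intro x hx h
    obtain ⟨b, hb, hbb⟩ := exists_sqrt hk hA hc hf f (x * x) (hsq x hx) le_rfl
      (by rw [← pow_two, ← pow_mul, ← pow_succ', h])
    have h1 : x * b⁻¹ * (x * b⁻¹) = 1 := by
      calc x * b⁻¹ * (x * b⁻¹) = x * (b⁻¹ * x) * b⁻¹ := by group
        _ = x * x * (b * b)⁻¹ := by rw [← hcen x hx b⁻¹ (inv_mem hb)]; group
        _ = 1 := by rw [hbb, mul_inv_cancel]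
    have := mul_mem (hV _ h1) hb
    rwa [inv_mul_cancel_right] at this
  have hV' : ∀ x ∈ W, x ^ 2 ^ (f + 1) * x ^ 2 ^ (f + 1) = 1 := fun x hx => by
    have := hf.1 _ (hsq x hx)
    rw [← pow_two, ← pow_mul, ← pow_succ'] at this
    rwa [← pow_two, ← pow_mul, ← pow_succ]
  intro x hx y hy
  by_cases hWA : ∀ w ∈ W, w ∈ A
  · exact hc x (hWA x hx) y (hWA y hy)
  push Not at hWA
  obtain ⟨w, hw, hwA⟩ := hWA
  set z := w ^ 2 ^ (f + 1) with hz
  have hz1 : z ≠ 1 := fun h => hwA (hker w hw h)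
  have hz2 : z * z = 1 := hV' w hw
  obtain ⟨F, iF, iFin, iC, l, e, hl, hinj, hadd, -, hrange, hmul⟩ :=
    exists_field_of_involutions k (fun a b ha hb => hc a (hV a ha) b (hV b hb)) z hz1 hz2
      (fun v hv1 hv => hk.trans z v hz1 hz2 hv1 hv)
  have hlift : ∀ u : F, ∃ r ∈ W, r ^ 2 ^ (f + 1) = e u := by
    intro u
    have hu : e u * e u = 1 := (hrange _).mpr ⟨u, rfl⟩
    by_cases hu1 : e u = 1
    · exact ⟨1, one_mem W, by rw [one_pow, hu1]⟩
    · obtain ⟨i, hi⟩ := hk.trans z _ hz1 hz2 hu1 hu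
      exact ⟨(k ^ i) w, hW.pow i w hw, by rw [← map_pow, hi]⟩
  choose L hLW hLe using hlift
  have hcongr : ∀ a ∈ W, ∀ a' ∈ W, a ^ 2 ^ (f + 1) = a' ^ 2 ^ (f + 1) → ∀ b ∈ W,
      ⁅a, b⁆ = ⁅a', b⁆ ∧ ⁅b, a⁆ = ⁅b, a'⁆ := by
    intro a ha a' ha' h b hb
    have h1 : a⁻¹ * a' ∈ A := hker _ (mul_mem (inv_mem ha) ha') (by
      rw [hΦ _ (inv_mem ha) _ ha', inv_pow, h, inv_mul_cancel])
    set d := a⁻¹ * a'
    have hd : a' = a * d := by simp [d]
    rw [hd]
    have hdb : d * b = b * d := (hcen b hb d h1).symm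
    constructor
    · rw [commutatorElement_def, commutatorElement_def]
      calc a * b * a⁻¹ * b⁻¹ = a * b * d * d⁻¹ * a⁻¹ * b⁻¹ := by group
        _ = a * d * b * (a * d)⁻¹ * b⁻¹ := by rw [mul_assoc a b d, ← hdb]; group
    · rw [commutatorElement_def, commutatorElement_def]
      calc b * a * b⁻¹ * a⁻¹ = b * a * (b⁻¹ * d) * d⁻¹ * a⁻¹ := by group
        _ = b * (a * d) * b⁻¹ * (a * d)⁻¹ := by
          rw [show b⁻¹ * d = d * b⁻¹ from hcen b⁻¹ (inv_mem hb) d h1]; group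
  have hex : ∀ u v : F, ∃ r : F, e r = ⁅L u, L v⁆ := fun u v =>
    (hrange _).mp (hinv2 _ (hLW u) _ (hLW v))
  choose Bf hBf using hex
  have hmulL : ∀ a ∈ W, ∀ a' ∈ W, ∀ b ∈ W, ⁅a * a', b⁆ = ⁅a, b⁆ * ⁅a', b⁆ := by
    intro a ha a' ha' b hb
    rw [show ⁅a * a', b⁆ = a * ⁅a', b⁆ * a⁻¹ * ⁅a, b⁆ by
      simp only [commutatorElement_def]; group, hcen a ha _ (hcm a' ha' b hb),
      mul_inv_cancel_right, hc _ (hcm a ha b hb) _ (hcm a' ha' b hb)]
  have hmulR : ∀ a ∈ W, ∀ b ∈ W, ∀ b' ∈ W, ⁅a, b * b'⁆ = ⁅a, b⁆ * ⁅a, b'⁆ := by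
    intro a ha b hb b' hb'
    rw [show ⁅a, b * b'⁆ = ⁅a, b⁆ * (b * ⁅a, b'⁆ * b⁻¹) by
      simp only [commutatorElement_def]; group, hcen b hb _ (hcm a ha b' hb'), mul_inv_cancel_right]
  have hL : ∀ u v, L (u + v) ^ 2 ^ (f + 1) = (L u * L v) ^ 2 ^ (f + 1) := fun u v => by
    rw [hLe, hΦ _ (hLW u) _ (hLW v), hLe, hLe, hadd]
  have hBl : ∀ u u' v, Bf (u + u') v = Bf u v + Bf u' v := fun u u' v => hinj (by
    rw [hadd, hBf, hBf, hBf, (hcongr _ (hLW _) _ (mul_mem (hLW u) (hLW u')) (hL u u') _ (hLW v)).1,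
      hmulL _ (hLW u) _ (hLW u') _ (hLW v)])
  have hBr : ∀ u v v', Bf u (v + v') = Bf u v + Bf u v' := fun u v v' => hinj (by
    rw [hadd, hBf, hBf, hBf, (hcongr _ (hLW _) _ (mul_mem (hLW v) (hLW v')) (hL v v') _ (hLW u)).2,
      hmulR _ (hLW u) _ (hLW v) _ (hLW v')])
  let B : F →+ F →+ F := AddMonoidHom.mk' (fun u => AddMonoidHom.mk' (Bf u) (hBr u))
    fun u u' => AddMonoidHom.ext fun v => hBl u u' v
  have he0 : e 0 = 1 := by
    have := hadd 0 0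
    rw [add_zero] at this
    exact mul_eq_right.mp this.symm
  have hB0 := hl.alternating_eq_zero B (fun u => hinj (by
      show e (Bf u u) = _
      rw [hBf, he0, commutatorElement_self]))
    (fun u v => hinj (by
      show e (Bf (l * u) (l * v)) = e (l * Bf u v)
      rw [hmul, hBf, hBf, map_commutatorElement]
      have hk' : ∀ u, L (l * u) ^ 2 ^ (f + 1) = (k (L u)) ^ 2 ^ (f + 1) := fun u => by
        rw [hLe, hmul, ← map_pow, hLe]
      rw [(hcongr _ (hLW _) _ (hW _ (hLW u)) (hk' u) _ (hLW _)).1,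
        (hcongr _ (hLW _) _ (hW _ (hLW v)) (hk' v) _ (hW _ (hLW u))).2]))
  obtain ⟨u, hu⟩ := (hrange _).mp (hV' x hx)
  obtain ⟨v, hv⟩ := (hrange _).mp (hV' y hy)
  rw [← commutatorElement_eq_one_iff_mul_comm,
    (hcongr x hx _ (hLW u) (by rw [hLe, hu]) y hy).1,
    (hcongr y hy _ (hLW v) (by rw [hLe, hv]) _ (hLW u)).2, ← hBf, show Bf u v = 0 from hB0 u v, he0]

/-- A layer above an invariant normal subgroup. -/
theorem exists_layer_max (h2 : IsPGroup 2 P) {A C : Subgroup P} [A.Normal] [C.Normal] (hA : Inv k A)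
    (hC : Inv k C) (hAC : A < C) :
    ∃ M : Subgroup P, A < M ∧ M ≤ C ∧ M.Normal ∧ Inv k M ∧
      (∀ x ∈ M, x * x ∈ A ∧ ∀ p : P, ⁅x, p⁆ ∈ A) ∧
      ∀ x ∈ C, x * x ∈ A → (∀ p : P, ⁅x, p⁆ ∈ A) → x ∈ M := by
  haveI : Fact (Nat.Prime 2) := ⟨Nat.prime_two⟩
  have hQ : IsPGroup 2 (P ⧸ A) := h2.to_quotient A
  haveI := hQ.isNilpotent
  haveI : (C.map (QuotientGroup.mk' A)).Normal :=
    Subgroup.Normal.map inferInstance _ (QuotientGroup.mk'_surjective A)
  obtain ⟨c, hc, hcA⟩ := SetLike.exists_of_lt hAC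
  have hne : C.map (QuotientGroup.mk' A) ⊓ Subgroup.center (P ⧸ A) ≠ ⊥ := by
    refine Nilp.inf_center_ne_bot_of_normal fun h => hcA ?_
    have := Subgroup.mem_map_of_mem (QuotientGroup.mk' A) hc
    rwa [h, Subgroup.mem_bot, QuotientGroup.mk'_apply, QuotientGroup.eq_one_iff] at this
  have key : ∀ x : P, (QuotientGroup.mk x : P ⧸ A) ∈ Subgroup.center (P ⧸ A) ↔
      ∀ p : P, ⁅x, p⁆ ∈ A := by
    intro x
    rw [Subgroup.mem_center_iff]
    constructor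
    · intro h p
      rw [← QuotientGroup.eq_one_iff]
      show QuotientGroup.mk' A ⁅x, p⁆ = 1
      rw [map_commutatorElement, commutatorElement_eq_one_iff_mul_comm]
      exact (h _).symm
    · intro h g
      obtain ⟨p, rfl⟩ := QuotientGroup.mk_surjective g
      have := (QuotientGroup.eq_one_iff ⁅x, p⁆).mpr (h p)
      rw [show ((⁅x, p⁆ : P) : P ⧸ A) = ⁅(x : P ⧸ A), (p : P ⧸ A)⁆ from
        map_commutatorElement (QuotientGroup.mk' A) x p, commutatorElement_eq_one_iff_mul_comm] at this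
      exact this.symm
  let M : Subgroup P :=
    { carrier := {x | x ∈ C ∧ x * x ∈ A ∧ ∀ p : P, ⁅x, p⁆ ∈ A}
      mul_mem' := fun {x y} hx hy => by
        refine ⟨mul_mem hx.1 hy.1, ?_, fun p => ?_⟩
        · rw [sq_mul]
          refine mul_mem (mul_mem hx.2.1 ?_) hy.2.1
          have h1 := (key x).mpr hx.2.2
          exact (key x⁻¹).mp (by rw [QuotientGroup.mk_inv]; exact inv_mem h1) y
        · exact (key _).mp (by
            rw [QuotientGroup.mk_mul]; exact mul_mem ((key x).mpr hx.2.2) ((key y).mpr hy.2.2)) p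
      one_mem' := ⟨one_mem C, by simp, fun p => by simp⟩
      inv_mem' := fun {x} hx => by
        refine ⟨inv_mem hx.1, by rw [← mul_inv_rev]; exact inv_mem hx.2.1, fun p => ?_⟩
        exact (key _).mp (by rw [QuotientGroup.mk_inv]; exact inv_mem ((key x).mpr hx.2.2)) p }
  have hAM : A ≤ M := fun a ha => ⟨hAC.le ha, mul_mem ha ha, fun p => by
    rw [commutatorElement_def, mul_assoc a p, mul_assoc]
    exact mul_mem ha (Subgroup.Normal.conj_mem ‹_› _ (inv_mem ha) p)⟩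
  refine ⟨M, lt_of_le_of_ne hAM ?_, fun x hx => hx.1, ⟨fun x hx g => ?_⟩, ?_, fun x hx => hx.2,
    fun x hx h1 h2 => ⟨hx, h1, h2⟩⟩
  · obtain ⟨⟨u, hu⟩, hu1⟩ := Subgroup.ne_bot_iff_exists_ne_one.mp hne
    obtain ⟨n, hn⟩ := IsPGroup.iff_orderOf.mp hQ u
    have hn1 : n ≠ 0 := fun h => hu1 (Subtype.ext (orderOf_eq_one_iff.mp (by rw [hn, h]; rfl)))
    set u' := u ^ (orderOf u / 2) with hu'
    have ho : orderOf u' = 2 :=
      orderOf_pow_orderOf_div (orderOf_pos u).ne' (hn ▸ dvd_pow_self 2 hn1)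
    obtain ⟨x, hx, hxu⟩ := Subgroup.mem_map.mp (Subgroup.pow_mem _ hu.1 (orderOf u / 2))
    rw [← hu'] at hxu
    clear_value u'
    have hxM : x ∈ M := by
      refine ⟨hx, ?_, (key x).mp ?_⟩
      · rw [← QuotientGroup.eq_one_iff, QuotientGroup.mk_mul]
        show QuotientGroup.mk' A x * QuotientGroup.mk' A x = 1
        rw [hxu, ← pow_two, ← ho, pow_orderOf_eq_one]
      · rw [show (x : P ⧸ A) = u' from hxu]
        rw [hu']
        exact Subgroup.pow_mem _ hu.2 _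
    intro h
    rw [← h] at hxM
    have : u' = 1 := by
      rw [← hxu, QuotientGroup.mk'_apply, QuotientGroup.eq_one_iff]; exact hxM
    rw [this, orderOf_one] at ho
    omega
  · have hrw : g * x * g⁻¹ = ⁅g, x⁆ * x := by rw [commutatorElement_def]; group
    rw [hrw]
    exact mul_mem (hAM (by rw [← commutatorElement_inv]; exact inv_mem (hx.2.2 g))) hx
  · intro x hx
    refine ⟨hC x hx.1, by rw [← map_mul]; exact hA _ hx.2.1, fun p => ?_⟩
    have := hA _ (hx.2.2 (k⁻¹ p))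
    rwa [map_commutatorElement, ← MulAut.mul_apply, mul_inv_cancel, MulAut.one_apply] at this

/-- A layer above an invariant normal subgroup. -/
theorem exists_layer (h2 : IsPGroup 2 P) {A C : Subgroup P} [A.Normal] [C.Normal] (hA : Inv k A)
    (hC : Inv k C) (hAC : A < C) :
    ∃ M : Subgroup P, A < M ∧ M ≤ C ∧ M.Normal ∧ Inv k M ∧
      ∀ x ∈ M, x * x ∈ A ∧ ∀ p : P, ⁅x, p⁆ ∈ A := by
  obtain ⟨M, h1, h3, h4, h5, h6, -⟩ := exists_layer_max h2 hA hC hAC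
  exact ⟨M, h1, h3, h4, h5, h6⟩

end Cfsg.Agent.Lib.SuzukiTwo
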