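import Cfsg.Agent.Lib.FieldAut.Span

/-!
Equivariant additive and biadditive maps of a finite field of characteristic two with respect to
multiplication by a primitive element.
-/

set_option autoImplicit false
set_option linter.unusedSectionVars false

namespace Cfsg.Agent.Lib.SuzukiTwo

/-- The binary expansion of a sum of two powers of two. -/
theorem two_pow_add_unique {a b c d : ℕ} (h : 2 ^ a + 2 ^ b = 2 ^ c + 2 ^ d) :
    (a = c ∧ b = d) ∨ (a = d ∧ b = c) := by
  wlog hab : a ≤ b generalizing a b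
  · rcases this (a := b) (b := a) (by rw [← h, add_comm]) (le_of_not_ge hab) with ⟨h1, h2⟩ | ⟨h1, h2⟩
    · exact Or.inr ⟨h2, h1⟩
    · exact Or.inl ⟨h2, h1⟩
  wlog hcd : c ≤ d generalizing c d
  · rcases this (c := d) (d := c) (by rw [h, add_comm]) (le_of_not_ge hcd) with ⟨h1, h2⟩ | ⟨h1, h2⟩
    · exact Or.inr ⟨h1, h2⟩
    · exact Or.inl ⟨h1, h2⟩
  rcases lt_trichotomy b d with hlt | rfl | hlt
  · exfalso
    have h1 : 2 ^ a ≤ 2 ^ b := Nat.pow_le_pow_right (by norm_num) hab
    have h2 : 2 ^ (b + 1) ≤ 2 ^ d := Nat.pow_le_pow_right (by norm_num) hlt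
    have h3 : 0 < 2 ^ c := Nat.two_pow_pos c
    rw [pow_succ] at h2
    omega
  · exact Or.inl ⟨Nat.pow_right_injective (le_refl 2) (show 2 ^ a = 2 ^ c by omega), rfl⟩
  · exfalso
    have h1 : 2 ^ c ≤ 2 ^ d := Nat.pow_le_pow_right (by norm_num) hcd
    have h2 : 2 ^ (d + 1) ≤ 2 ^ b := Nat.pow_le_pow_right (by norm_num) hlt
    have h3 : 0 < 2 ^ a := Nat.two_pow_pos a
    rw [pow_succ] at h2
    omega

variable {F : Type*} [Field F] [Fintype F] [CharP F 2]

theorem exists_card_eq_two_pow : ∃ n : ℕ, 1 ≤ n ∧ Fintype.card F = 2 ^ n := by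
  obtain ⟨k, -, hk⟩ := FiniteField.card F 2
  exact ⟨k, k.pos, hk⟩

theorem exists_exponent {n : ℕ} (hn : Fintype.card F = 2 ^ n) (σ : F ≃+* F) :
    ∃ d < n, ∀ x, σ x = x ^ (2 ^ d) := by
  letI : Algebra (ZMod 2) F := ZMod.algebra F 2
  let σ' : F ≃ₐ[ZMod 2] F := AlgEquiv.ofRingEquiv (f := σ) (fun x =>
    RingHom.congr_fun (Subsingleton.elim ((σ : F →+* F).comp (algebraMap (ZMod 2) F))
      (algebraMap (ZMod 2) F)) x)
  obtain ⟨d, hd⟩ := (FiniteField.bijective_frobeniusAlgEquivOfAlgebraic_pow (ZMod 2) F).2 σ'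
  have hfr : Module.finrank (ZMod 2) F = n := by
    refine Nat.pow_right_injective (le_refl 2) ?_
    show 2 ^ _ = 2 ^ n
    rw [← hn, Module.card_eq_pow_finrank (K := ZMod 2) (V := F), ZMod.card]
  refine ⟨d.1, hfr ▸ d.2, fun x => ?_⟩
  have h := AlgEquiv.congr_fun hd x
  rw [show σ x = σ' x from rfl, ← h]
  simp [AlgEquiv.coe_pow, FiniteField.coe_frobeniusAlgEquivOfAlgebraic_iterate, ZMod.card]

/-- `l` is a primitive element. -/
def IsGen (l : F) : Prop := orderOf l = Fintype.card F - 1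

variable {l : F}

theorem IsGen.ne_zero (hl : IsGen l) : l ≠ 0 := by
  intro h
  have h2 : 1 < Fintype.card F := Fintype.one_lt_card
  rw [IsGen, h, orderOf_zero] at hl
  omega

theorem IsGen.exists_pow (hl : IsGen l) {x : F} (hx : x ≠ 0) : ∃ i : ℕ, l ^ i = x := by
  haveI : NeZero (Fintype.card F - 1) :=
    ⟨by have := Fintype.one_lt_card (α := F); omega⟩
  have hprim : IsPrimitiveRoot l (Fintype.card F - 1) := hl ▸ IsPrimitiveRoot.orderOf l
  obtain ⟨i, -, hi⟩ := hprim.eq_pow_of_pow_eq_one (FiniteField.pow_card_sub_one_eq_one x hx)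
  exact ⟨i, hi⟩

theorem IsGen.aut_ext (hl : IsGen l) {σ τ : F ≃+* F} (h : σ l = τ l) : σ = τ := by
  refine RingEquiv.ext fun x => ?_
  rcases eq_or_ne x 0 with rfl | hx
  · rw [map_zero, map_zero]
  · obtain ⟨i, rfl⟩ := hl.exists_pow hx
    rw [map_pow, map_pow, h]

theorem IsGen.exponent_eq (hl : IsGen l) {n S T : ℕ} (hn : Fintype.card F = 2 ^ n) (hS : 2 ≤ S)
    (hS' : S ≤ 2 ^ n) (hT : 2 ≤ T) (hT' : T ≤ 2 ^ n) (h : l ^ S = l ^ T) : S = T := by
  wlog hle : S ≤ T generalizing S T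
  · exact (this hT hT' hS hS' h.symm (le_of_not_ge hle)).symm
  obtain ⟨k, rfl⟩ := Nat.exists_eq_add_of_le hle
  have h1 : l ^ k = 1 := by
    rw [pow_add] at h
    exact (mul_eq_left₀ (pow_ne_zero S hl.ne_zero)).mp h.symm
  have hdvd := orderOf_dvd_of_pow_eq_one h1
  rw [hl, hn] at hdvd
  rcases Nat.eq_zero_or_pos k with rfl | hk
  · rfl
  · have := Nat.le_of_dvd hk hdvd
    omega

theorem IsGen.pair_unique (hl : IsGen l) {σ τ σ' τ' : F ≃+* F} (h : σ l * τ l = σ' l * τ' l) :
    (σ = σ' ∧ τ = τ') ∨ (σ = τ' ∧ τ = σ') := by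
  obtain ⟨n, hn1, hn⟩ := exists_card_eq_two_pow (F := F)
  obtain ⟨a, ha, ea⟩ := exists_exponent hn σ
  obtain ⟨b, hb, eb⟩ := exists_exponent hn τ
  obtain ⟨c, hc, ec⟩ := exists_exponent hn σ'
  obtain ⟨d, hd, ed⟩ := exists_exponent hn τ'
  rw [ea, eb, ec, ed, ← pow_add, ← pow_add] at h
  have hpos : ∀ i, 1 ≤ 2 ^ i := fun i => Nat.one_le_two_pow
  have hle : ∀ i, i < n → 2 * 2 ^ i ≤ 2 ^ n := fun i hi => by
    rw [← pow_succ']; exact Nat.pow_le_pow_right (by norm_num) hi
  have h' := hl.exponent_eq hn (by linarith [hpos a, hpos b]) (by linarith [hle a ha, hle b hb])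
    (by linarith [hpos c, hpos d]) (by linarith [hle c hc, hle d hd]) h
  rcases two_pow_add_unique h' with ⟨rfl, rfl⟩ | ⟨rfl, rfl⟩
  · exact Or.inl ⟨hl.aut_ext (by rw [ea, ec]), hl.aut_ext (by rw [eb, ed])⟩
  · exact Or.inr ⟨hl.aut_ext (by rw [ea, ed]), hl.aut_ext (by rw [eb, ec])⟩

/-- A product of two conjugates of `l` is a conjugate only if the two agree. -/
theorem IsGen.pair_eq (hl : IsGen l) {σ τ μ : F ≃+* F} (h : σ l * τ l = μ l) : σ = τ := by
  let fr : F ≃+* F := frobeniusEquiv F 2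
  have hfr : ∀ x : F, fr x = x * x := fun x => by
    show frobeniusEquiv F 2 x = x * x
    rw [frobeniusEquiv_apply, frobenius_def, pow_two]
  have h2 : σ l * τ l = (fr.symm.trans μ) l * (fr.symm.trans μ) l := by
    rw [h, RingEquiv.trans_apply, ← map_mul, ← hfr, RingEquiv.apply_symm_apply]
  rcases hl.pair_unique h2 with ⟨h3, h4⟩ | ⟨h3, h4⟩ <;> rw [h3, h4]

theorem coeff₂_eq_zero [Fintype (F ≃+* F)] {c : (F ≃+* F) × (F ≃+* F) → F}
    (h : ∀ x y : F, ∑ q, c q * (q.1 x * q.2 y) = 0) : c = 0 := by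
  funext ⟨σ, τ⟩
  have h1 : ∀ y : F, ∑ τ', c (σ, τ') * τ' y = 0 := fun y =>
    Fintype.linearIndependent_iff.mp (FieldAut.linearIndependent_aut (F := F))
      (fun σ' => ∑ τ', c (σ', τ') * τ' y) (by
        funext x
        simp only [Finset.sum_apply, Pi.smul_apply, smul_eq_mul, Pi.zero_apply, RingHom.coe_coe]
        rw [← h x y, Fintype.sum_prod_type]
        refine Finset.sum_congr rfl fun σ' _ => ?_
        rw [Finset.sum_mul]
        exact Finset.sum_congr rfl fun τ' _ => by ring) σ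
  exact Fintype.linearIndependent_iff.mp (FieldAut.linearIndependent_aut (F := F))
    (fun τ' => c (σ, τ')) (by
      funext y
      simpa [Finset.sum_apply] using h1 y) τ

/-- The coefficients of an equivariant biadditive map. -/
theorem exists_coeff_equivariant [Fintype (F ≃+* F)] {l m : F} (B : F →+ F →+ F)
    (heq : ∀ x y, B (l * x) (l * y) = m * B x y) :
    ∃ c : (F ≃+* F) × (F ≃+* F) → F, (∀ x y : F, B x y = ∑ q, c q * (q.1 x * q.2 y)) ∧
      ∀ q, c q ≠ 0 → q.1 l * q.2 l = m := by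
  obtain ⟨c, hc⟩ := FieldAut.exists_coeff_biadditive 2 B
  refine ⟨c, hc, fun q hq => ?_⟩
  have h := coeff₂_eq_zero (c := fun q => c q * (q.1 l * q.2 l - m)) (fun x y => by
    have := heq x y
    rw [hc, hc, Finset.mul_sum, ← sub_eq_zero, ← Finset.sum_sub_distrib] at this
    rw [← this]
    exact Finset.sum_congr rfl fun q _ => by rw [map_mul, map_mul]; ring)
  exact sub_eq_zero.mp ((mul_eq_zero.mp (congrFun h q)).resolve_left hq)

/-- An alternating biadditive map commuting with a primitive element is zero. -/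
theorem IsGen.alternating_eq_zero (hl : IsGen l) (B : F →+ F →+ F) (halt : ∀ x, B x x = 0)
    (heq : ∀ x y, B (l * x) (l * y) = l * B x y) (x y : F) : B x y = 0 := by
  haveI : Finite (F ≃+* F) := Finite.of_injective _ DFunLike.coe_injective
  haveI : Fintype (F ≃+* F) := Fintype.ofFinite _
  classical
  obtain ⟨c, hc, hsupp⟩ := exists_coeff_equivariant B heq
  by_cases h0 : c = 0
  · rw [hc]; simp [h0]
  obtain ⟨⟨σ, τ⟩, hq⟩ := Function.ne_iff.mp h0
  have hst : σ = τ := hl.pair_eq (μ := RingEquiv.refl F) (hsupp _ hq)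
  subst hst
  have hone : ∀ q, q ≠ (σ, σ) → c q = 0 := by
    rintro ⟨α, β⟩ hne
    by_contra hab
    rcases hl.pair_unique ((hsupp _ hab).trans (hsupp _ hq).symm) with ⟨h1, h2⟩ | ⟨h1, h2⟩ <;>
      exact hne (by rw [show α = σ from h1, show β = σ from h2])
  have hB : ∀ x y, B x y = c (σ, σ) * (σ x * σ y) := fun x y => by
    rw [hc, Fintype.sum_eq_single (σ, σ) fun q hq' => by rw [hone q hq', zero_mul]]
  have h1 := halt 1
  rw [hB, map_one, mul_one, mul_one] at h1
  exact absurd h1 hq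

/-- A nonzero set of additive maps invariant under conjugation by a primitive element contains an
injective one. -/
theorem IsGen.exists_injective (hl : IsGen l) (S : AddSubgroup (F →+ F))
    (hinv : ∀ D ∈ S, ∀ E : F →+ F, (∀ x, E x = l * D (l⁻¹ * x)) → E ∈ S)
    (hne : ∃ D ∈ S, D ≠ 0) : ∃ D ∈ S, Function.Injective D := by
  classical
  haveI : Finite (F ≃+* F) := Finite.of_injective _ DFunLike.coe_injective
  haveI : Fintype (F ≃+* F) := Fintype.ofFinite _
  letI : Algebra (ZMod 2) F := ZMod.algebra F 2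
  set C : Set ((F ≃+* F) → F) := {c | ∃ D ∈ S, ∀ x, D x = ∑ σ, c σ * σ x} with hC
  have hadd : ∀ c ∈ C, ∀ d ∈ C, c + d ∈ C := by
    rintro c ⟨D, hD, hc⟩ d ⟨E, hE, hd⟩
    exact ⟨D + E, add_mem hD hE, fun x => by
      simp [hc, hd, Finset.sum_add_distrib, add_mul]⟩
  have hzero : (0 : (F ≃+* F) → F) ∈ C := ⟨0, zero_mem S, fun x => by simp⟩
  set μ : (F ≃+* F) → F := fun σ => l * σ l⁻¹ with hμ
  have hmul : ∀ c ∈ C, μ * c ∈ C := by
    rintro c ⟨D, hD, hc⟩
    refine ⟨(AddMonoidHom.mulLeft l).comp (D.comp (AddMonoidHom.mulLeft l⁻¹)),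
      hinv D hD _ (fun x => rfl), fun x => ?_⟩
    show l * D (l⁻¹ * x) = _
    rw [hc, Finset.mul_sum]
    exact Finset.sum_congr rfl fun σ _ => by simp [hμ]; ring
  have hpoly : ∀ g : Polynomial (ZMod 2), ∀ c ∈ C, (fun σ => Polynomial.aeval (μ σ) g * c σ) ∈ C := by
    intro g
    induction g using Polynomial.induction_on' with
    | add f g hf hg =>
      intro c hc
      have := hadd _ (hf c hc) _ (hg c hc)
      convert this using 1
      funext σ
      simp [add_mul]
    | monomial k r =>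
      intro c hc
      rcases (by revert r; decide : r = 0 ∨ r = 1) with rfl | rfl
      · convert hzero using 1
        funext σ
        simp
      · have hk : ∀ k : ℕ, μ ^ k * c ∈ C := by
          intro k
          induction k with
          | zero => simpa using hc
          | succ k ih =>
            rw [pow_succ', mul_assoc]
            exact hmul _ ih
        convert hk k using 1
        funext σ
        simp [Polynomial.aeval_monomial]
  obtain ⟨D0, hD0, hD0ne⟩ := hne
  obtain ⟨c0, hc0⟩ := FieldAut.exists_coeff 2 D0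
  have hc0C : c0 ∈ C := ⟨D0, hD0, hc0⟩
  have hc0ne : c0 ≠ 0 := fun h => hD0ne (AddMonoidHom.ext fun x => by rw [hc0, h]; simp)
  obtain ⟨c, hc', hmin⟩ := Finset.exists_min_image
    (Finset.univ.filter fun c : (F ≃+* F) → F => c ∈ C ∧ c ≠ 0)
    (fun c => (Finset.univ.filter fun σ => c σ ≠ 0).card) ⟨c0, by simp [hc0C, hc0ne]⟩
  · simp only [Finset.mem_filter, Finset.mem_univ, true_and] at hc' hmin
    obtain ⟨hcC, hcne⟩ := hc'
    obtain ⟨τ, hτ⟩ := Function.ne_iff.mp hcne
    have hsupp : ∀ σ, c σ ≠ 0 → σ = τ := by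
      intro σ hσ
      by_contra hne
      set g := minpoly (ZMod 2) (μ τ) with hg
      have hgσ : Polynomial.aeval (μ σ) g ≠ 0 := by
        intro h
        obtain ⟨φ, hφ⟩ := minpoly.exists_algEquiv_of_root' (Algebra.IsAlgebraic.isAlgebraic (μ τ)) h
        refine hne ?_
        simp only [hμ, map_mul, map_inv₀] at hφ
        have hl0 := hl.ne_zero
        have h1 : (φ : F ≃+* F) l * σ l = ((τ.trans (φ : F ≃+* F))) l * (RingEquiv.refl F) l := by
          have h2 : φ (τ l) ≠ 0 := by simp [hl0]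
          have h3 : σ l ≠ 0 := by simp [hl0]
          show φ l * σ l = φ (τ l) * l
          field_simp at hφ
          linear_combination hφ
        rcases hl.pair_unique h1 with ⟨h4, h5⟩ | ⟨h4, h5⟩
        · have : τ = RingEquiv.refl F := RingEquiv.ext fun x => (φ : F ≃+* F).injective
            (RingEquiv.congr_fun h4 x).symm
          rw [this, h5]
        · rw [h5]
          exact RingEquiv.ext fun x => (RingEquiv.congr_fun h4 (τ x))
      have hnew := hpoly g c hcC
      have hne' : (fun σ => Polynomial.aeval (μ σ) g * c σ) ≠ 0 := fun h =>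
        mul_ne_zero hgσ hσ (congrFun h σ)
      have hle := hmin _ ⟨hnew, hne'⟩
      have hlt : (Finset.univ.filter fun σ => Polynomial.aeval (μ σ) g * c σ ≠ 0).card <
          (Finset.univ.filter fun σ => c σ ≠ 0).card := by
        refine Finset.card_lt_card ⟨fun x hx => ?_, fun hsub => ?_⟩
        · simp only [Finset.mem_filter, Finset.mem_univ, true_and] at hx ⊢
          exact right_ne_zero_of_mul hx
        · have := hsub (show τ ∈ Finset.univ.filter fun σ => c σ ≠ 0 by simpa using hτ)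
          simp [hg, minpoly.aeval] at this
      omega
    obtain ⟨D, hD, hDc⟩ := hcC
    refine ⟨D, hD, (injective_iff_map_eq_zero D).mpr fun x hx => ?_⟩
    rw [hDc, Fintype.sum_eq_single τ fun σ hσ => by
      rw [not_not.mp fun h => hσ (hsupp σ h), zero_mul]] at hx
    exact (map_eq_zero_iff τ τ.injective).mp ((mul_eq_zero.mp hx).resolve_left hτ)

end Cfsg.Agent.Lib.SuzukiTwo
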